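import Cfsg.Agent.StdRank2.UFourEnd.SplitX
import Cfsg.Agent.WreathFusion.KillW

/-!
# S1778, type `U₄(q)`, split case: the contradiction

`false_of_card`: in the split case a Sylow 2-subgroup of `L` has more than `|F|⁶` elements.
-/

set_option autoImplicit false
set_option linter.unusedSectionVars false

namespace Cfsg.Agent.StdRank2.UFourEnd.SplitX

open Subgroup
open Cfsg.Agent.TitsThree.StdData
open Cfsg.Agent.StdRank2.B2Std Cfsg.Agent.StdRank2.UFour Cfsg.Agent.StdRank2.UFourId
open Cfsg.Agent.StdEven Cfsg.Agent.StdEven.CoreQuot Cfsg.Agent.StdEven.Syl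
open Cfsg.Agent.Schreier.Basic Cfsg.Agent.StdL2.Setup

universe u

variable {G : Type u} [Group G] [Finite G] {L A T : Subgroup G} {t : G}
variable {F : Type*} [Field F] [Finite F] [CharP F 2] {B : Bar F}
variable (h : CoreQuot.Hyp A t T) (S : Std (stdU0 F B.s B.invol) ↥A) {lam : B.K} (h0 : lam ≠ 0) (h1 : lam ≠ 1)
variable {Gr : Grown (B2Conn.env4 h S h0 h1)} {MX S₁ : Subgroup (XQ A t)} (hM : SplitM Gr MX S₁)
variable (C : Conf L A t)

include C hM in
/-- **The split case is impossible.** -/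
theorem false_of_card (hS : Sch ↥A) {N : Subgroup G} (hN : IsSyl N L) (hc : Nat.card N ≤ Nat.card F ^ 6) : False := by
  obtain ⟨Y, hY, hYN, hd⟩ := exists_pdata h S h0 h1 hM C hS hN hc
  exact Cfsg.Agent.WreathFusion.false_of_imW C h hY hYN hd

end Cfsg.Agent.StdRank2.UFourEnd.SplitX
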