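import Cfsg.Agent.StdRank2.UFourFac
import Cfsg.Agent.StdRank2.UFourSplitP
import Cfsg.Agent.StdEven.EndLift

/-!
# S1778, type `U₄(q)`, split case: the subgroup `M` of `G` and the last step

`exists_M`: the lift of the factor `MX` of the split case.
`exists_pdata`: if a Sylow 2-subgroup of `L` has at most `|F|⁶` elements, then the lift `Y` of `Sh Gr = S₁ × S₁^t` is a
Sylow 2-subgroup of `L`, with the data of the weak form of Theorem W in `X`.
-/

set_option autoImplicit false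
set_option linter.unusedSectionVars false

namespace Cfsg.Agent.StdRank2.UFourEnd.SplitX

open Subgroup
open Cfsg.Agent.TitsThree.B2Pkg Cfsg.Agent.TitsThree.RankTwoIdentB2
  Cfsg.Agent.TitsThree.CoreB2 Cfsg.Agent.TitsThree.RankTwoIdx Cfsg.Agent.TitsThree.RankTwoRGD
  Cfsg.Agent.TitsThree.StdData
open Cfsg.Agent.StdRank2.B2Std Cfsg.Agent.StdRank2.UFour Cfsg.Agent.StdRank2.UEnvW
  Cfsg.Agent.StdRank2.UEnv4 Cfsg.Agent.StdRank2.UFourId Cfsg.Agent.StdRank2.UFourFac
open Cfsg.Agent.StdEven Cfsg.Agent.StdEven.CoreQuot Cfsg.Agent.StdEven.Syl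
open Cfsg.Agent.SwapEnd Cfsg.Agent.StdRank2.SplitLift Cfsg.Agent.WreathFusion
open Cfsg.Agent.Schreier.Basic Cfsg.Agent.StdL2.Setup
open scoped commutatorElement

universe u

section Sh

variable {F : Type*} [Field F] [CharP F 2] {B : Bar F} {G : Type*} [Group G] {E : Env B G}

theorem card_Sh (Gr : Grown E) : Nat.card (Sh Gr) = Nat.card F ^ 6 := by
  obtain ⟨d, pa, pc, pb, pz, h⟩ := exists_lab Gr
  exact h.card_Sh

theorem isPGroup_Sh [Finite F] (Gr : Grown E) : IsPGroup 2 (Sh Gr) := by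
  have := Fintype.ofFinite F
  obtain ⟨n, -, hn⟩ := FiniteField.card F 2
  refine IsPGroup.of_card (n := n * 6) ?_
  rw [card_Sh, Nat.card_eq_fintype_card, hn, ← pow_mul]

end Sh

section conf

variable {G : Type u} [Group G] [Finite G] {L A : Subgroup G} {t : G}

/-- perfect subgroups lie in `L` -/
theorem le_of_perf (C : Conf L A t) {D : Subgroup G} (hD : D ≤ ⁅D, D⁆) : D ≤ L := by
  have := C.normal
  have hcyc : ⁅(⊤ : Subgroup G), ⊤⁆ ≤ L := by
    rw [commutator_le]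
    have hrep : ∀ g : G, ∃ l ∈ L, ∃ n : ℤ, l * t ^ n = g := by
      intro g
      have hg : g ∈ ((L ⊔ zpowers t : Subgroup G) : Set G) := by rw [C.gen]; exact mem_top g
      rw [Subgroup.normal_mul] at hg
      obtain ⟨l, hl, z, hz, rfl⟩ := hg
      obtain ⟨n, rfl⟩ := mem_zpowers_iff.1 hz
      exact ⟨l, hl, n, rfl⟩
    have hq : ∀ g h : G, (QuotientGroup.mk' L) g * (QuotientGroup.mk' L) h =
        (QuotientGroup.mk' L) h * (QuotientGroup.mk' L) g := by
      intro g g'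
      obtain ⟨l, hl, n, rfl⟩ := hrep g
      obtain ⟨l', hl', n', rfl⟩ := hrep g'
      have e1 : (QuotientGroup.mk' L) l = 1 := (QuotientGroup.eq_one_iff l).2 hl
      have e2 : (QuotientGroup.mk' L) l' = 1 := (QuotientGroup.eq_one_iff l').2 hl'
      rw [map_mul, map_mul, e1, e2, one_mul, one_mul, ← map_mul, ← map_mul, ← zpow_add, ← zpow_add, add_comm]
    intro g _ g' _
    have h1 : (QuotientGroup.mk' L) ⁅g, g'⁆ = 1 := by
      rw [map_commutatorElement, commutatorElement_eq_one_iff_mul_comm]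
      exact hq g g'
    exact (QuotientGroup.eq_one_iff _).1 h1
  exact hD.trans ((commutator_mono le_top le_top).trans hcyc)

end conf

section X

variable {G : Type u} [Group G] [Finite G] {L A T : Subgroup G} {t : G}
variable {F : Type*} [Field F] [Finite F] [CharP F 2] {B : Bar F}
variable (h : CoreQuot.Hyp A t T) (S : Std (stdU0 F B.s B.invol) ↥A) {lam : B.K} (h0 : lam ≠ 0) (h1 : lam ≠ 1)
variable {Gr : Grown (B2Conn.env4 h S h0 h1)} {MX S₁ : Subgroup (XQ A t)} (hM : SplitM Gr MX S₁)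
variable (C : Conf L A t)

include hM in
/-- **The subgroup `M`.** -/
theorem exists_M (cyc : ∀ R : Sylow 2 ↥(centralizer (A : Set G)), IsCyclic ↥(R : Subgroup ↥(centralizer (A : Set G))))
    (hS : Sch ↥A) : ∃ (M : Subgroup G) (W : Swap M t), Swap.Dia W A ∧
      (∀ m ∈ M, ∀ o ∈ core A t, o * m = m * o) ∧ (∀ m ∈ M, m ∈ NO A t) ∧ im A t M = MX ∧
      (∀ x : G, (∃ k : ℕ, x ^ 2 ^ k = 1) → (∀ o ∈ core A t, o * x = x * o) →
        (∀ hx : x ∈ NO A t, pr A t ⟨x, hx⟩ ∈ MX) → x ∈ M) :=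
  exists_lift h (fac h S h0 h1 hM) hS cyc

include C hM in
theorem Sh_le_im (hS : Sch ↥A) : Sh Gr ≤ im A t L := by
  have := C.normal
  have hn : (im A t L).Normal := by
    have h1 : (L.subgroupOf (NO A t)).Normal := inferInstance
    exact h1.map (pr A t) (pr_surjective A t)
  obtain ⟨M, W, -, -, -, him, -⟩ := exists_M h S h0 h1 hM C.cyc hS
  have h2 : M ≤ L := le_of_perf C W.perf.ge
  have h3 : MX ≤ im A t L := by rw [← him]; exact im_mono h2
  rw [← hM.prod.2.2.2.2]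
  refine sup_le (hM.le.trans h3) ?_
  rintro _ ⟨x, hx, rfl⟩
  exact hn.conj_mem x (h3 (hM.le hx)) _

include C in
/-- the lift of `Sh Gr` -/
theorem exists_lift_Sh (hSL : Sh Gr ≤ im A t L) : ∃ Y : Subgroup G, IsPGroup 2 Y ∧ Y ≤ NO A t ∧ Y ≤ L ∧
    im A t Y = Sh Gr ∧ Nat.card Y = Nat.card F ^ 6 := by
  have := C.normal
  have hbot : im A t (⊥ : Subgroup G) ≤ Sh Gr := by
    intro x hx
    obtain ⟨n, hn, rfl⟩ := mem_im.1 hx
    have h1 : n = 1 := Subtype.ext (mem_bot.1 hn)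
    rw [h1, map_one]
    exact one_mem _
  obtain ⟨Y, hY, hYN, -, him⟩ := h.exists_lift (Y' := Sh Gr) (isPGroup_Sh Gr) (Y0 := ⊥) IsPGroup.of_bot bot_le hbot
  refine ⟨Y, hY, hYN, fun y hy => ?_, him, ?_⟩
  · refine Cfsg.Agent.StdEven.EndLift.mem_L C h (hYN hy) (hSL ?_)
    rw [← him]
    exact pr_mem_im (n := ⟨y, hYN hy⟩) hy
  · rw [← card_Sh Gr, ← him, h.card_im hY hYN]

include C hM in
/-- **The data of the weak form of Theorem W.** -/
theorem exists_pdata (hS : Sch ↥A) {N : Subgroup G} (hN : IsSyl N L) (hc : Nat.card N ≤ Nat.card F ^ 6) :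
    ∃ Y : Subgroup G, IsSyl Y L ∧ Y ≤ NO A t ∧ PDataW (im A t Y) S₁ (S₁.map (MulAut.conj h.tX).toMonoidHom) MX
      (MX.map (MulAut.conj h.tX).toMonoidHom) := by
  obtain ⟨Y, hY, hYN, hYL, him, hcard⟩ := exists_lift_Sh h S h0 h1 (Gr := Gr) C (Sh_le_im h S h0 h1 hM C hS)
  refine ⟨Y, hN.of_card_le hY hYL (by omega), hYN, ?_⟩
  rw [him]
  exact hM.pdataW

end X

end Cfsg.Agent.StdRank2.UFourEnd.SplitX
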