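import Cfsg.Agent.StdRank2.UFourEnd.Field
import Cfsg.Agent.StdRank2.UFourEnd.SplitX

/-!
# S1778, type `U₄(q)`, `q ≥ 4`: the frame of the final assembly

`core_of`: `Core TypeU4` from the split case `SplitStmt` and S1769.
-/

set_option autoImplicit false
set_option linter.unusedSectionVars false

namespace Cfsg.Agent.StdRank2.UFourEnd.Asm

open Subgroup Cfsg.Agent.StdRank2.UFour Cfsg.Agent.StdRank2.UFourId
open Cfsg.Agent.StdEven Cfsg.Agent.StdEven.CoreQuot Cfsg.Agent.StdEven.Red Cfsg.Agent.StdL2.Setup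
open Cfsg.Agent.StdSpFour.CaseBSplit (LinSylow)

universe u

/-- the split case -/
def SplitStmt : Prop := ∀ (F : Type) [Field F] [Fintype F] [CharP F 2] (q : ℕ) (hF : Fintype.card F = q ^ 2)
  (G : Type u) [Group G] [Finite G] (L A : Subgroup G) (t : G) (_ : Conf L A t) (_ : Odd (Nat.card (center ↥A)))
  (_ : 4 ≤ q) (_ : ∃ a : ℕ, q = 2 ^ a) (_ : ↥A ⧸ center ↥A ≃* Cfsg.PSU 4 F q) (D : Chain.Data4 A t hF)
  (MX S₁ : Subgroup (XQ A t)), SplitLift.Fac D.h MX → SplitM D.grown MX S₁ → False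

/-- **The frame.** -/
theorem core_of (hS : SplitStmt.{u})
    (h1769 : ∀ (L : Type u) [Group L] [Finite L] [IsSimpleGroup L], LinSylow.{u, 0} L) :
    Core.{u} (fun Q _ => TypeU4 Q) := by
  intro H _ _ L A t hC hZ hQ
  obtain ⟨F, i1, i2, a, ha, hcard, ⟨e⟩⟩ := hQ
  have hch := Chain.charTwo hcard
  have hF := Chain.card_sq hcard
  have hq : 4 ≤ 2 ^ a := by
    calc 4 = 2 ^ 2 := rfl
      _ ≤ 2 ^ a := Nat.pow_le_pow_right (by norm_num) ha
  obtain ⟨D⟩ := Chain.nonempty_data4 hC hZ hF (by omega) e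
  rcases UFourFac.exists_fac D.h D.S D.h0 D.h1 D.grown with ⟨MX, S₁, hfac, hM⟩ | ⟨d, ε, pa, pc, pb, pz, h, h1, h2⟩
  · exact (hS F (2 ^ a) hF H L A t hC hZ hq ⟨a, rfl⟩ e D MX S₁ hfac hM).elim
  · have := hC.simple
    have hF4 : 4 < Nat.card F := by
      rw [Nat.card_eq_fintype_card, hF]
      nlinarith
    refine Field.concl4 D.h D.S D.h0 D.h1 D.grown h h1 h2 hC D.adapted ?_ hF4 (h1769 ↥L)
    rw [← D.hU]
    exact inf_le_left

end Cfsg.Agent.StdRank2.UFourEnd.Asm
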