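import Cfsg.Agent.StdRank2.UStart.Conn
import Cfsg.Agent.StdRank2.OutB2OuterU4
import Cfsg.Agent.StdRank2.B2Mover
import Cfsg.Agent.StdRank2.UFour.GrowA3
import Cfsg.Agent.StdRank2.SchQuot

/-!
# S1778, type `U₄(q)`: from the reduced configuration to the grown environment
-/

set_option autoImplicit false
set_option linter.unusedSectionVars false

namespace Cfsg.Agent.StdRank2.UFourEnd.Chain

open Subgroup
open Cfsg.Agent.TitsThree.B2Pkg Cfsg.Agent.TitsThree.RankTwoIdentB2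
  Cfsg.Agent.TitsThree.StdData
open Cfsg.Agent.StdRank2.B2Std Cfsg.Agent.StdRank2.B2Amb Cfsg.Agent.StdRank2.UFour
  Cfsg.Agent.StdRank2.UEnvW Cfsg.Agent.StdRank2.B2Act.Std Cfsg.Agent.StdRank2.B2Par.Std
open Cfsg.Agent.StdRank2.OutB2G Cfsg.Agent.StdRank2.OutB2Data Cfsg.Agent.StdRank2.OutB2Inv
open Cfsg.Agent.Schreier.Basic
open Cfsg.Agent.StdEven Cfsg.Agent.StdEven.Loc Cfsg.Agent.StdEven.CoreQuot Cfsg.Agent.StdRank2.B2Conn
open Cfsg.Agent.StdRank2.UStart Cfsg.Agent.StdL2.Setup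

universe u

/-- `|F| = q²`. -/
theorem card_sq {F : Type*} [Fintype F] {a : ℕ} (hF : Fintype.card F = 4 ^ a) :
    Fintype.card F = (2 ^ a) ^ 2 := by
  rw [hF, ← pow_mul, mul_comm, pow_mul]
  norm_num

theorem charTwo {F : Type*} [Field F] [Fintype F] {a : ℕ} (hF : Fintype.card F = 4 ^ a) : CharP F 2 := by
  have : Fact (Nat.Prime 2) := ⟨Nat.prime_two⟩
  refine charP_of_card_eq_prime_pow (f := 2 * a) ?_
  rw [hF, pow_mul]
  norm_num

section data

variable {G : Type u} [Group G] [Finite G] (L A : Subgroup G) (t : G)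
  {F : Type*} [Field F] [Fintype F] [CharP F 2] {q : ℕ} (hF : Fintype.card F = q ^ 2)

/-- What is known after the growth, type `U₄(q)`. -/
structure Data4 where
  T : Subgroup G
  S : Std (stdU0 F (bar hF).s (bar hF).invol) ↥A
  h : Hyp A t T
  lam : (bar hF).K
  h0 : lam ≠ 0
  h1 : lam ≠ 1
  isT : IsT A t T
  hU : T ⊓ A = UG S
  adapted : Adapted (nU0 (bar hF).s (bar hF).invol) S T
  sit : Sit S t T
  outer : StepFour.Outer A t T
  schA : Sch ↥A
  schX : Sch ↥(im A t A)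
  grown : Grown (env4 h S h0 h1)

end data

section main

variable {G : Type u} [Group G] [Finite G] {L A : Subgroup G} {t : G} (C : Conf L A t)
  (hZ : Odd (Nat.card (center ↥A)))
include C hZ

theorem commutator_eq_top : _root_.commutator ↥A = ⊤ := by
  exact C.std.1.1.commutator_eq_top

variable {F : Type*} [Field F] [Fintype F] [CharP F 2] {q : ℕ} (hF : Fintype.card F = q ^ 2) (hq : 3 ≤ q)
include hF hq

theorem sch_A (e : ↥A ⧸ center ↥A ≃* PSU 4 F q) : Sch ↥A := by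
  have h2 : Sch (↥A ⧸ center ↥A) := Sch.of_equiv e.symm (Cfsg.Agent.Schreier.PSU.sch hF (by norm_num) (by omega))
  exact Cfsg.Agent.StdRank2.SchQuot.sch_of_center (commutator_eq_top C hZ) h2

theorem nonempty_data4 (e : ↥A ⧸ center ↥A ≃* PSU 4 F q) : Nonempty (Data4 A t hF) := by
  obtain ⟨S0⟩ := exists_U4 hF (commutator_eq_top C hZ) hZ e
  have hcF : Nat.card F = q ^ 2 := by rw [Nat.card_eq_fintype_card, hF]
  have hs1 : (bar hF).s ≠ 1 := s_ne_one _
  have h5 : 5 ≤ Nat.card F := by rw [hcF]; nlinarith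
  have hTy : Ty.{u} (nU0 (bar hF).s (bar hF).invol) := tyU0 _ _ hs1 h5
  have hD := udat0 (bar hF)
  obtain ⟨T, S, hT, hU, had⟩ := exists_adapted' C hZ hTy (card_T0 _) S0
  have hsit := sit_of_adapted hT hU had
  have hO := OutB2OuterU4.outer_U4 hs1 h5 hZ had t
  have hq2 : 2 < Nat.card (Fx (stdU0 F (bar hF).s (bar hF).invol)) := by
    have h2 := card_Fx hD
    rw [hcF] at h2
    by_contra hcon
    nlinarith
  have hSA := sch_A C hZ hF hq e
  have h := exists_hyp hD C hZ hsit hq2 hSA hO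
  obtain ⟨lam, h0, h1⟩ := exists_lam hF hq
  have hSX := B2Mover.sch_im h e (Cfsg.Agent.Schreier.PSU.sch hF (by norm_num) (by omega))
  obtain ⟨n, c, hn, hc, e1, e2⟩ := exists_moverX hD C hZ hsit h hq2 (hyp4 h S) h0 h1 hSA hO
  obtain ⟨Sd, -, hnb⟩ := B2Mover.exists_seed_of_mover4 (imS h S) (hyp4 h S) h0 h1 hSX hc e1 e2
  exact ⟨⟨T, S, h, lam, h0, h1, hT, hU, had, hsit, hO, hSA, hSX, Env.grown Sd hnb⟩⟩

end main

end Cfsg.Agent.StdRank2.UFourEnd.Chain
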