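import Cfsg.Agent.StdRank2.UFourEnd.Good

/-!
# The closing of type `U₄(q)` in the field case: `W` and `S` are characteristic in `P = S T`

`conj_W_eq`, `conj_S_eq`: elements normalising `P` normalise `W` and `S`.
-/

set_option autoImplicit false
set_option linter.unusedSectionVars false

namespace Cfsg.Agent.StdRank2.UFourEnd

open Subgroup Cfsg.Agent.StdRank2.UFour Cfsg.Agent.StdEven.Syl

variable {F : Type*} [Field F] [CharP F 2] {B : Bar F} {G : Type*} [Group G]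

/-- the pairs fixed by `σ` (with or without swap) -/
def Fix (σ : F ≃+* F) (x : Bool) : Type _ :=
  {u : F × F // (bif x then σ u.2 else σ u.1) = u.1 ∧ (bif x then σ u.1 else σ u.2) = u.2}

instance [Finite F] (σ : F ≃+* F) (x : Bool) : Finite (Fix σ x) := by unfold Fix; infer_instance

instance (σ : F ≃+* F) (x : Bool) : Inhabited (Fix σ x) := ⟨⟨(0, 0), by cases x <;> simp⟩⟩

namespace Hyp

variable [Finite F] {C : Crd B G} {T H : Subgroup G} (h : Hyp C T H)

include h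

theorem card_fix {y : G} (hy : y ∈ H) (hyy : y * y = 1) (hy1 : y ≠ 1) {σ : F ≃+* F} {x : Bool}
    (hac : C.Ac σ x y) : Nat.card (Fix σ x) = Nat.card F := by
  rcases h.invol_cases hyy hac with rfl | rfl
  · cases x
    · exact absurd (h.ker y hy hac) hy1
    · refine Nat.card_congr
        { toFun := fun y => y.1.1
          invFun := fun y => ⟨(y, y), rfl, rfl⟩
          left_inv := fun y => Subtype.ext (Prod.ext rfl y.2.2)
          right_inv := fun y => rfl }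
  · exact Crd.card_pair B x

variable [Finite G]

/-- subgroups of `W` centralised by an element of `P` outside `S` -/
theorem card_le_of_comm {s y : G} (hs : s ∈ C.S) (hy : y ∈ H) (hyy : y * y = 1) (hy1 : y ≠ 1) (V : Subgroup G)
    (hV : V ≤ C.W) (hc : ∀ v ∈ V, s * y * v = v * (s * y)) : Nat.card V ≤ Nat.card F ^ 3 := by
  obtain ⟨σ, x, hac⟩ := h.ac y hy
  have hfix := h.card_fix hy hyy hy1 hac
  obtain ⟨m, c, d, z, a, b, rfl⟩ := hs
  let V0 : Subgroup G :=
    { carrier := {g | ∃ u : Fix σ x, g = C.w 0 u.1.1 u.1.2 0}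
      mul_mem' := by
        rintro _ _ ⟨⟨⟨u, v⟩, h1, h2⟩, rfl⟩ ⟨⟨⟨u', v'⟩, h1', h2'⟩, rfl⟩
        refine ⟨⟨(u + u', v + v'), ?_, ?_⟩, ?_⟩
        · cases x <;> simp only [cond_true, cond_false, map_add] at * <;> rw [h1, h1']
        · cases x <;> simp only [cond_true, cond_false, map_add] at * <;> rw [h2, h2']
        · rw [C.w_mul, add_zero]
      one_mem' := ⟨⟨(0, 0), by cases x <;> simp⟩, C.w_zero.symm⟩
      inv_mem' := by
        rintro _ ⟨u, rfl⟩
        exact ⟨u, C.w_inv _ _ _ _⟩ }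
  have hV0 : Nat.card V0 ≤ Nat.card F := by
    rw [← hfix]
    refine Nat.card_le_card_of_surjective (fun u : Fix σ x => (⟨C.w 0 u.1.1 u.1.2 0, ⟨u, rfl⟩⟩ : V0)) ?_
    rintro ⟨_, u, rfl⟩
    exact ⟨u, rfl⟩
  have h1 := card_le_mul V V0 (fun g => ((C.co g).1, (C.co g).2.2.2.1)) (by
    intro g hg g' hg' hgg
    obtain ⟨m1, c1, d1, z1, rfl⟩ := hV hg
    obtain ⟨m2, c2, d2, z2, rfl⟩ := hV hg'
    rw [C.co_w, C.co_w] at hgg
    have e1 : m1 = m2 := congrArg Prod.fst hgg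
    have e2 : z1 = z2 := congrArg Prod.snd hgg
    subst e1 e2
    have e3 := hc _ (mul_mem (inv_mem hg) hg')
    rw [C.w_inv, C.w_mul, CharTwo.add_self_eq_zero m1, CharTwo.add_self_eq_zero z1] at e3 ⊢
    refine ⟨⟨(c1 + c2, d1 + d2), ?_⟩, rfl⟩
    show (bif x then σ (d1 + d2) else σ (c1 + c2)) = c1 + c2 ∧ (bif x then σ (c1 + c2) else σ (d1 + d2)) = d1 + d2
    have e4 : C.w m c d z * C.p a b * (y * C.w 0 (c1 + c2) (d1 + d2) 0 * y⁻¹) * (C.w m c d z * C.p a b)⁻¹ =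
        C.w 0 (c1 + c2) (d1 + d2) 0 := by
      have h4 : C.w m c d z * C.p a b * y * C.w 0 (c1 + c2) (d1 + d2) 0 * (C.w m c d z * C.p a b * y)⁻¹ =
        C.w 0 (c1 + c2) (d1 + d2) 0 := by rw [e3, mul_inv_cancel_right]
      calc C.w m c d z * C.p a b * (y * C.w 0 (c1 + c2) (d1 + d2) 0 * y⁻¹) * (C.w m c d z * C.p a b)⁻¹
          = C.w m c d z * C.p a b * y * C.w 0 (c1 + c2) (d1 + d2) 0 * (C.w m c d z * C.p a b * y)⁻¹ := by group
        _ = _ := h4
    rw [hac.conj_w, C.conj_nf] at e4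
    obtain ⟨-, e5, e6, -⟩ := C.w_injective e4
    rw [map_zero, mul_zero, add_zero] at e5 e6
    exact ⟨e5, e6⟩)
  calc Nat.card V ≤ Nat.card (F × F) * Nat.card (V ⊓ V0 : Subgroup G) := h1
    _ ≤ Nat.card (F × F) * Nat.card F := Nat.mul_le_mul_left _ ((Subgroup.card_le_of_le inf_le_right).trans hV0)
    _ = Nat.card F ^ 3 := by rw [Nat.card_prod]; ring

omit h in
theorem line_inj {a b u v u' v' : F} (h : a ≠ 0 ∨ b ≠ 0) (h1 : a * v = b * u) (h2 : a * v' = b * u')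
    (h3 : (open Classical in if a ≠ 0 then u else v) = (open Classical in if a ≠ 0 then u' else v')) :
    u = u' ∧ v = v' := by
  by_cases ha : a = 0
  · subst ha
    have hb : b ≠ 0 := by tauto
    simp only [ne_eq, not_true_eq_false, if_false] at h3
    subst h3
    simp only [zero_mul] at h1 h2
    have e1 := (mul_eq_zero.1 h1.symm).resolve_left hb
    have e2 := (mul_eq_zero.1 h2.symm).resolve_left hb
    exact ⟨by rw [e1, e2], rfl⟩
  · simp only [ne_eq, ha, not_false_eq_true, if_true] at h3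
    subst h3
    refine ⟨rfl, mul_left_cancel₀ ha (h1.trans h2.symm)⟩

theorem conj_W_le (hF : 4 < Nat.card F) {x : G} (hx : ∀ g ∈ C.S ⊔ T, x * g * x⁻¹ ∈ C.S ⊔ T)
    (hx' : ∀ g ∈ C.S ⊔ T, x⁻¹ * g * x ∈ C.S ⊔ T) : C.W.map (MulAut.conj x).toMonoidHom = C.W := by
  classical
  set D : Subgroup G := C.W.map (MulAut.conj x).toMonoidHom with hD
  have hcard : Nat.card D = Nat.card F ^ 4 := by
    rw [← C.card_W]
    exact (Nat.card_congr (C.W.equivMapOfInjective _ (MulAut.conj x).injective).toEquiv).symm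
  have hmemD : ∀ {g : G}, g ∈ D ↔ x⁻¹ * g * x ∈ C.W := mem_map_conj
  have hDP : D ≤ C.S ⊔ T := by
    rintro _ ⟨g, hg, rfl⟩
    exact hx g (mem_sup_left (C.W_le hg))
  have hDn : ∀ g ∈ C.S ⊔ T, ∀ e ∈ D, g * e * g⁻¹ ∈ D := by
    intro g hg e he
    rw [hmemD] at he ⊢
    have : x⁻¹ * (g * e * g⁻¹) * x = (x⁻¹ * g * x) * (x⁻¹ * e * x) * (x⁻¹ * g * x)⁻¹ := by group
    rw [this]
    exact h.conj_W' (hx' g hg) he
  have hDc : ∀ g ∈ D, ∀ e ∈ D, g * e = e * g := by
    intro g hg e he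
    rw [hmemD] at he hg
    have h1 := C.W_comm hg he
    calc g * e = x * ((x⁻¹ * g * x) * (x⁻¹ * e * x)) * x⁻¹ := by group
      _ = x * ((x⁻¹ * e * x) * (x⁻¹ * g * x)) * x⁻¹ := by rw [h1]
      _ = e * g := by group
  have hDs : ∀ e ∈ D, e * e = 1 := by
    intro e he
    rw [hmemD] at he
    have h1 := C.W_sq he
    calc e * e = x * ((x⁻¹ * e * x) * (x⁻¹ * e * x)) * x⁻¹ := by group
      _ = 1 := by rw [h1]; group
  have h4 := h.card_le_four D hDP (fun e he => by rw [hDs e he]; exact one_mem _)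
  have hfin : Nat.card (D ⊓ C.S : Subgroup G) ≤ Nat.card F ^ 3 → False := by
    intro h5
    have h6 := h4.trans (Nat.mul_le_mul_left 4 h5)
    rw [hcard] at h6
    have h7 : Nat.card F * Nat.card F ^ 3 ≤ 4 * Nat.card F ^ 3 := by
      calc Nat.card F * Nat.card F ^ 3 = Nat.card F ^ 4 := by ring
        _ ≤ _ := h6
    have h8 := Nat.le_of_mul_le_mul_right h7 (by positivity)
    omega
  apply Subgroup.eq_of_le_of_card_ge _ (by rw [hcard, C.card_W])
  by_contra hne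
  obtain ⟨e, heD, heW⟩ := SetLike.not_le_iff_exists.1 hne
  by_cases hSW : D ⊓ C.S ≤ C.W
  · -- `e ∉ S`
    apply hfin
    obtain ⟨s, hs, y, hy, rfl⟩ := h.mem_P.1 (hDP heD)
    refine h.card_le_of_comm hs hy (h.H_sq hy hs (by rw [hDs _ heD]; exact one_mem _)) ?_ _ hSW
      (fun v hv => hDc _ heD _ (mem_inf.1 hv).1)
    rintro rfl
    rw [mul_one] at heD heW
    exact heW (hSW (mem_inf.2 ⟨heD, hs⟩))
  · obtain ⟨e', he', he'W⟩ := SetLike.not_le_iff_exists.1 hSW
    obtain ⟨he'D, m, c, d, z, a, b, rfl⟩ := mem_inf.1 he'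
    have hab : a ≠ 0 ∨ b ≠ 0 := by
      by_contra hcon
      push Not at hcon
      obtain ⟨rfl, rfl⟩ := hcon
      apply he'W
      rw [C.p_zero, mul_one]
      exact C.w_mem _ _ _ _
    -- the commutator with `w 1 0 0 0`
    have hcom : C.w 0 a b (a * b) ∈ D := by
      have h5 : C.w m c d z * C.p a b * (C.w 1 0 0 0 * (C.w m c d z * C.p a b)⁻¹ * (C.w 1 0 0 0)⁻¹) ∈ D :=
        mul_mem he'D (hDn _ (mem_sup_left (C.w_mem_S _ _ _ _)) _ (inv_mem he'D))
      have h6 : C.w m c d z * C.p a b * (C.w 1 0 0 0 * (C.w m c d z * C.p a b)⁻¹ * (C.w 1 0 0 0)⁻¹) =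
          (C.w m c d z * C.p a b * C.w 1 0 0 0 * (C.w m c d z * C.p a b)⁻¹) * (C.w 1 0 0 0)⁻¹ := by group
      rw [h6, C.conj_nf, C.w_inv, C.w_mul] at h5
      convert h5 using 1
      apply C.w_eq
      · exact (CharTwo.add_self_eq_zero (1 : F)).symm
      · ring
      · ring
      · ring
    -- the elements of `D ⊓ S`
    have hline : ∀ m' c' d' z' a' b', C.w m' c' d' z' * C.p a' b' ∈ D → a * b' = b * a' := by
      intro m' c' d' z' a' b' hg
      have h5 := hDc _ hg _ hcom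
      have h6 : C.w m' c' d' z' * C.p a' b' * C.w 0 a b (a * b) * (C.w m' c' d' z' * C.p a' b')⁻¹ =
          C.w 0 a b (a * b) := by rw [h5, mul_inv_cancel_right]
      rw [C.conj_nf] at h6
      obtain ⟨-, -, -, h7⟩ := C.w_injective h6
      have := CharTwo.add_self_eq_zero (b' * a)
      have h8 := CharTwo.add_self_eq_zero (a' * b)
      linear_combination h7 - h8
    have h5 := card_le_mul (D ⊓ C.S) C.W (fun g => if a ≠ 0 then (C.co g).2.2.2.2.1 else (C.co g).2.2.2.2.2) (by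
      intro g hg g' hg' hgg
      obtain ⟨hgD, m1, c1, d1, z1, a1, b1, rfl⟩ := mem_inf.1 hg
      obtain ⟨hgD', m2, c2, d2, z2, a2, b2, rfl⟩ := mem_inf.1 hg'
      rw [C.co_nf, C.co_nf] at hgg
      obtain ⟨rfl, rfl⟩ := line_inj hab (hline _ _ _ _ _ _ hgD) (hline _ _ _ _ _ _ hgD') hgg
      have e : (C.w m1 c1 d1 z1 * C.p a1 b1)⁻¹ * (C.w m2 c2 d2 z2 * C.p a1 b1) =
          C.p a1 b1 * (C.w m1 c1 d1 z1 * C.w m2 c2 d2 z2) * (C.p a1 b1)⁻¹ := by
        rw [mul_inv_rev, C.w_inv, C.p_inv]; group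
      rw [e]
      exact C.conj_W (C.p_mem_S _ _) (mul_mem (C.w_mem _ _ _ _) (C.w_mem _ _ _ _)))
    have h6 : Nat.card ((D ⊓ C.S) ⊓ C.W : Subgroup G) ≤ Nat.card F ^ 2 := by
      rw [pow_two, ← Nat.card_prod]
      have hel : ∀ g ∈ ((D ⊓ C.S) ⊓ C.W : Subgroup G), ∃ c' d' z', g = C.w 0 c' d' z' ∧ a * d' = b * c' := by
        intro g hg
        obtain ⟨hg1, m', c', d', z', rfl⟩ := mem_inf.1 hg
        have h7 := hDc _ he'D _ (mem_inf.1 hg1).1
        have h8 : C.w m c d z * C.p a b * C.w m' c' d' z' * (C.w m c d z * C.p a b)⁻¹ = C.w m' c' d' z' := by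
          rw [h7, mul_inv_cancel_right]
        rw [C.conj_nf] at h8
        obtain ⟨-, e1, e2, e3⟩ := C.w_injective h8
        have hm : m' = 0 := by
          rcases hab with ha | hb
          · have : a * m' = 0 := by linear_combination e1
            exact (mul_eq_zero.1 this).resolve_left ha
          · have : b * m' = 0 := by linear_combination e2
            exact (mul_eq_zero.1 this).resolve_left hb
        subst hm
        refine ⟨c', d', z', rfl, ?_⟩
        have := CharTwo.add_self_eq_zero (b * c')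
        linear_combination e3 - this
      refine Nat.card_le_card_of_injective (fun g : ((D ⊓ C.S) ⊓ C.W : Subgroup G) =>
        ((if a ≠ 0 then (C.co (g : G)).2.1 else (C.co (g : G)).2.2.1), (C.co (g : G)).2.2.2.1)) ?_
      rintro ⟨g, hg⟩ ⟨g', hg'⟩ hgg
      obtain ⟨c1, d1, z1, rfl, e1⟩ := hel g hg
      obtain ⟨c2, d2, z2, rfl, e2⟩ := hel g' hg'
      simp only [C.co_w, Prod.mk.injEq] at hgg
      obtain ⟨e3, rfl⟩ := hgg
      obtain ⟨rfl, rfl⟩ := line_inj hab e1 e2 e3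
      rfl
    apply hfin
    calc Nat.card (D ⊓ C.S : Subgroup G) ≤ Nat.card F * Nat.card ((D ⊓ C.S) ⊓ C.W : Subgroup G) := h5
      _ ≤ Nat.card F * Nat.card F ^ 2 := Nat.mul_le_mul_left _ h6
      _ = Nat.card F ^ 3 := by ring

theorem conj_S_le (hF : 4 < Nat.card F) {x : G} (hx : ∀ g ∈ C.S ⊔ T, x * g * x⁻¹ ∈ C.S ⊔ T)
    (hx' : ∀ g ∈ C.S ⊔ T, x⁻¹ * g * x ∈ C.S ⊔ T) : C.S.map (MulAut.conj x).toMonoidHom = C.S := by
  classical
  have hW := h.conj_W_le hF hx hx'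
  have hmemW : ∀ {g : G}, x⁻¹ * g * x ∈ C.W → g ∈ C.W := by
    intro g hg
    rw [← hW]
    exact mem_map_conj.2 hg
  set D : Subgroup G := C.S.map (MulAut.conj x).toMonoidHom with hD
  have hcard : Nat.card D = Nat.card F ^ 6 := by
    rw [← C.card_S]
    exact (Nat.card_congr (C.S.equivMapOfInjective _ (MulAut.conj x).injective).toEquiv).symm
  have hmemD : ∀ {g : G}, g ∈ D ↔ x⁻¹ * g * x ∈ C.S := mem_map_conj
  have hDP : D ≤ C.S ⊔ T := by
    rintro _ ⟨g, hg, rfl⟩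
    exact hx g (mem_sup_left hg)
  have hDc : ∀ g ∈ D, ∀ e ∈ D, g * e * g⁻¹ * e⁻¹ ∈ C.W := by
    intro g hg e he
    rw [hmemD] at he hg
    apply hmemW
    have : x⁻¹ * (g * e * g⁻¹ * e⁻¹) * x = (x⁻¹ * g * x) * (x⁻¹ * e * x) * (x⁻¹ * g * x)⁻¹ * (x⁻¹ * e * x)⁻¹ := by
      group
    rw [this]
    exact C.comm_mem_W hg he
  have hDs : ∀ e ∈ D, e * e ∈ C.W := by
    intro e he
    rw [hmemD] at he
    apply hmemW
    have : x⁻¹ * (e * e) * x = (x⁻¹ * e * x) * (x⁻¹ * e * x) := by group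
    rw [this]
    exact C.sq_mem_W he
  have h4 := h.card_le_four D hDP (fun e he => C.W_le (hDs e he))
  apply Subgroup.eq_of_le_of_card_ge _ (by rw [hcard, C.card_S])
  by_contra hne
  obtain ⟨e, heD, heS⟩ := SetLike.not_le_iff_exists.1 hne
  obtain ⟨s, hs, y, hy, rfl⟩ := h.mem_P.1 (hDP heD)
  have hyy := h.H_sq hy hs (C.W_le (hDs _ heD))
  have hy1 : y ≠ 1 := by
    rintro rfl
    rw [mul_one] at heS
    exact heS hs
  obtain ⟨σ, xx, hac⟩ := h.ac y hy
  have hfix := h.card_fix hy hyy hy1 hac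
  obtain ⟨a, b, hs'⟩ := C.exists_pt hs
  have hel : ∀ g ∈ (D ⊓ C.S : Subgroup G), ∃ u : Fix σ xx, C.Pt g u.1.1 u.1.2 := by
    intro g hg
    obtain ⟨hgD, hgS⟩ := mem_inf.1 hg
    obtain ⟨a', b', hg'⟩ := C.exists_pt hgS
    refine ⟨⟨(a', b'), ?_⟩, hg'⟩
    have e1 := hDc _ heD _ hgD
    have e2 : s * y * g * (s * y)⁻¹ * g⁻¹ = s * (y * g * y⁻¹) * s⁻¹ * g⁻¹ := by group
    rw [e2] at e1
    obtain ⟨e5, e6⟩ := (((hs'.conj (hac.pt hg')).mul hg'.inv)).unique (C.pt_W e1)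
    exact ⟨Crd.eq_of_add e5, Crd.eq_of_add e6⟩
  have h5 : Nat.card (D ⊓ C.S : Subgroup G) ≤ Nat.card F * Nat.card F ^ 4 := by
    have h6 := card_le_mul (D ⊓ C.S) C.W (fun g => if hg : g ∈ (D ⊓ C.S : Subgroup G) then
        (hel g hg).choose else default) (by
      intro g hg g' hg' hgg
      have e1 := (hel g hg).choose_spec
      have e2 := (hel g' hg').choose_spec
      simp only [dif_pos hg, dif_pos hg'] at hgg
      rw [hgg] at e1
      exact e1.div e2)
    rw [hfix] at h6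
    refine h6.trans (Nat.mul_le_mul_left _ ?_)
    rw [← C.card_W]
    exact Subgroup.card_le_of_le inf_le_right
  have h6 := h4.trans (Nat.mul_le_mul_left 4 h5)
  rw [hcard] at h6
  have h7 : Nat.card F * Nat.card F ^ 5 ≤ 4 * Nat.card F ^ 5 := by
    calc Nat.card F * Nat.card F ^ 5 = Nat.card F ^ 6 := by ring
      _ ≤ _ := h6
      _ = 4 * Nat.card F ^ 5 := by ring
  have h8 := Nat.le_of_mul_le_mul_right h7 (by positivity)
  omega

end Hyp

end Cfsg.Agent.StdRank2.UFourEnd
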