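import Mathlib
import Cfsg.Agent.StdRank2.UFour.Field
import Cfsg.Agent.StdRank2.OutField

/-!
# The closing of type `U₄(q)` in the field case: coordinates

`Crd B G`: the grown group in coordinates of type `A₃` over `F` (`w m c d z`: the group `W` with `m = 23`, `c = 13`, `d = 24`,
`z = 14`; `p a b`: `a = 12`, `b = 34`), with the involution `t` acting as the graph-field automorphism.
-/

set_option autoImplicit false
set_option linter.unusedSectionVars false

namespace Cfsg.Agent.StdRank2.UFourEnd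

open Subgroup Cfsg.Agent.StdRank2.UFour

variable {F : Type*} [Field F] [CharP F 2]

/-- Coordinates of type `A₃`, with the graph-field involution `t`. -/
structure Crd (B : Bar F) (G : Type*) [Group G] where
  w : F → F → F → F → G
  p : F → F → G
  t : G
  w_mul : ∀ m c d z m' c' d' z', w m c d z * w m' c' d' z' = w (m + m') (c + c') (d + d') (z + z')
  p_mul : ∀ a b a' b', p a b * p a' b' = p (a + a') (b + b')
  p_w : ∀ a b m c d z, p a b * w m c d z =
    w m (c + a * m) (d + b * m) (z + a * d + b * c + a * b * m) * p a b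
  w_inj : ∀ m c d z, w m c d z = 1 → m = 0 ∧ c = 0 ∧ d = 0 ∧ z = 0
  tt : t * t = 1
  t_w : ∀ m c d z, t * w m c d z = w (B.s m) (B.s d) (B.s c) (B.s z) * t
  t_p : ∀ a b, t * p a b = p (B.s b) (B.s a) * t

namespace Crd

variable {B : Bar F} {G : Type*} [Group G] (C : Crd B G)

theorem eq_of_add {x y : F} (h : x + y = 0) : x = y := by
  have h2 := CharTwo.add_self_eq_zero y
  linear_combination h - h2

theorem w_zero : C.w 0 0 0 0 = 1 := by
  have := C.w_mul 0 0 0 0 0 0 0 0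
  simp only [add_zero] at this
  exact left_eq_mul.1 this.symm

theorem p_zero : C.p 0 0 = 1 := by
  have := C.p_mul 0 0 0 0
  simp only [add_zero] at this
  exact left_eq_mul.1 this.symm

theorem w_sq (m c d z : F) : C.w m c d z * C.w m c d z = 1 := by
  rw [C.w_mul, CharTwo.add_self_eq_zero, CharTwo.add_self_eq_zero, CharTwo.add_self_eq_zero,
    CharTwo.add_self_eq_zero, C.w_zero]

theorem p_sq (a b : F) : C.p a b * C.p a b = 1 := by
  rw [C.p_mul, CharTwo.add_self_eq_zero, CharTwo.add_self_eq_zero, C.p_zero]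

theorem w_inv (m c d z : F) : (C.w m c d z)⁻¹ = C.w m c d z := inv_eq_of_mul_eq_one_right (C.w_sq m c d z)

theorem p_inv (a b : F) : (C.p a b)⁻¹ = C.p a b := inv_eq_of_mul_eq_one_right (C.p_sq a b)

theorem t_inv : C.t⁻¹ = C.t := inv_eq_of_mul_eq_one_right C.tt

theorem w_comm (m c d z m' c' d' z' : F) : C.w m c d z * C.w m' c' d' z' = C.w m' c' d' z' * C.w m c d z := by
  rw [C.w_mul, C.w_mul, add_comm m, add_comm c, add_comm d, add_comm z]

theorem w_injective {m c d z m' c' d' z' : F} (h : C.w m c d z = C.w m' c' d' z') :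
    m = m' ∧ c = c' ∧ d = d' ∧ z = z' := by
  have h1 : C.w (m + m') (c + c') (d + d') (z + z') = 1 := by
    rw [← C.w_mul, h, C.w_sq]
  obtain ⟨h1, h2, h3, h4⟩ := C.w_inj _ _ _ _ h1
  exact ⟨eq_of_add h1, eq_of_add h2, eq_of_add h3, eq_of_add h4⟩

theorem w_eq {m c d z m' c' d' z' : F} (h1 : m = m') (h2 : c = c') (h3 : d = d') (h4 : z = z') :
    C.w m c d z = C.w m' c' d' z' := by rw [h1, h2, h3, h4]

theorem p_eq {a b a' b' : F} (h1 : a = a') (h2 : b = b') : C.p a b = C.p a' b' := by rw [h1, h2]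

/-- conjugation by `p` -/
theorem conj_p (a b m c d z : F) : C.p a b * C.w m c d z * (C.p a b)⁻¹ =
    C.w m (c + a * m) (d + b * m) (z + a * d + b * c + a * b * m) := by
  rw [C.p_w, mul_inv_cancel_right]

/-- product of normal forms -/
theorem nf_mul (m c d z a b m' c' d' z' a' b' : F) :
    (C.w m c d z * C.p a b) * (C.w m' c' d' z' * C.p a' b') =
      C.w (m + m') (c + (c' + a * m')) (d + (d' + b * m')) (z + (z' + a * d' + b * c' + a * b * m')) *
        C.p (a + a') (b + b') := by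
  rw [← C.p_mul, ← C.w_mul]
  calc (C.w m c d z * C.p a b) * (C.w m' c' d' z' * C.p a' b')
      = C.w m c d z * (C.p a b * C.w m' c' d' z') * C.p a' b' := by group
    _ = _ := by rw [C.p_w]; group

theorem p_mem_w {a b m c d z : F} (h : C.p a b = C.w m c d z) : a = 0 ∧ b = 0 := by
  have h1 : C.p a b * C.w 1 0 0 0 * (C.p a b)⁻¹ = C.w 1 0 0 0 := by
    rw [h, C.w_comm, mul_inv_cancel_right]
  rw [C.conj_p] at h1
  obtain ⟨-, h2, h3, -⟩ := C.w_injective h1
  constructor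
  · linear_combination h2
  · linear_combination h3

theorem nf_inj {m c d z a b m' c' d' z' a' b' : F} (h : C.w m c d z * C.p a b = C.w m' c' d' z' * C.p a' b') :
    m = m' ∧ c = c' ∧ d = d' ∧ z = z' ∧ a = a' ∧ b = b' := by
  have h1 : C.p (a + a') (b + b') = C.w (m + m') (c + c') (d + d') (z + z') := by
    rw [← C.p_mul, ← C.w_mul]
    have h2 : C.p a b = (C.w m c d z)⁻¹ * (C.w m' c' d' z' * C.p a' b') := by rw [← h]; group
    rw [h2, C.w_inv]
    have := C.p_sq a' b'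
    calc C.w m c d z * (C.w m' c' d' z' * C.p a' b') * C.p a' b'
        = C.w m c d z * C.w m' c' d' z' * (C.p a' b' * C.p a' b') := by group
      _ = _ := by rw [this, mul_one]
  obtain ⟨h2, h3⟩ := C.p_mem_w h1
  rw [h2, h3, C.p_zero] at h1
  obtain ⟨e1, e2, e3, e4⟩ := C.w_inj _ _ _ _ h1.symm
  exact ⟨eq_of_add e1, eq_of_add e2, eq_of_add e3, eq_of_add e4, eq_of_add h2, eq_of_add h3⟩

theorem nf_eq_one {m c d z a b : F} (h : C.w m c d z * C.p a b = 1) :
    m = 0 ∧ c = 0 ∧ d = 0 ∧ z = 0 ∧ a = 0 ∧ b = 0 := by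
  have : C.w m c d z * C.p a b = C.w 0 0 0 0 * C.p 0 0 := by rw [h, C.w_zero, C.p_zero, one_mul]
  exact C.nf_inj this

/-! ### the subgroups -/

/-- the grown group -/
def S : Subgroup G where
  carrier := {g | ∃ m c d z a b, g = C.w m c d z * C.p a b}
  mul_mem' := by
    rintro _ _ ⟨m, c, d, z, a, b, rfl⟩ ⟨m', c', d', z', a', b', rfl⟩
    exact ⟨_, _, _, _, _, _, C.nf_mul _ _ _ _ _ _ _ _ _ _ _ _⟩
  one_mem' := ⟨0, 0, 0, 0, 0, 0, by rw [C.w_zero, C.p_zero, one_mul]⟩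
  inv_mem' := by
    rintro _ ⟨m, c, d, z, a, b, rfl⟩
    exact ⟨_, _, _, _, a, b, by rw [mul_inv_rev, C.w_inv, C.p_inv, C.p_w]⟩

/-- the elementary abelian group `W` -/
def W : Subgroup G where
  carrier := {g | ∃ m c d z, g = C.w m c d z}
  mul_mem' := by
    rintro _ _ ⟨m, c, d, z, rfl⟩ ⟨m', c', d', z', rfl⟩
    exact ⟨_, _, _, _, C.w_mul _ _ _ _ _ _ _ _⟩
  one_mem' := ⟨0, 0, 0, 0, C.w_zero.symm⟩
  inv_mem' := by
    rintro _ ⟨m, c, d, z, rfl⟩
    exact ⟨_, _, _, _, C.w_inv _ _ _ _⟩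

theorem mem_S {g : G} : g ∈ C.S ↔ ∃ m c d z a b, g = C.w m c d z * C.p a b := Iff.rfl

theorem mem_W {g : G} : g ∈ C.W ↔ ∃ m c d z, g = C.w m c d z := Iff.rfl

theorem w_mem (m c d z : F) : C.w m c d z ∈ C.W := ⟨_, _, _, _, rfl⟩

theorem W_le : C.W ≤ C.S := by
  rintro _ ⟨m, c, d, z, rfl⟩
  exact ⟨m, c, d, z, 0, 0, by rw [C.p_zero, mul_one]⟩

theorem w_mem_S (m c d z : F) : C.w m c d z ∈ C.S := C.W_le (C.w_mem _ _ _ _)

theorem p_mem_S (a b : F) : C.p a b ∈ C.S := ⟨0, 0, 0, 0, a, b, by rw [C.w_zero, one_mul]⟩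

theorem nf_mem_W {m c d z a b : F} (h : C.w m c d z * C.p a b ∈ C.W) : a = 0 ∧ b = 0 := by
  obtain ⟨m', c', d', z', h⟩ := h
  have : C.w m c d z * C.p a b = C.w m' c' d' z' * C.p 0 0 := by rw [h, C.p_zero, mul_one]
  obtain ⟨-, -, -, -, h1, h2⟩ := C.nf_inj this
  exact ⟨h1, h2⟩

theorem W_sq {g : G} (h : g ∈ C.W) : g * g = 1 := by
  obtain ⟨m, c, d, z, rfl⟩ := h
  exact C.w_sq _ _ _ _

theorem W_comm {g k : G} (h : g ∈ C.W) (h' : k ∈ C.W) : g * k = k * g := by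
  obtain ⟨m, c, d, z, rfl⟩ := h
  obtain ⟨m', c', d', z', rfl⟩ := h'
  exact C.w_comm _ _ _ _ _ _ _ _

theorem conj_W {g k : G} (h : g ∈ C.S) (h' : k ∈ C.W) : g * k * g⁻¹ ∈ C.W := by
  obtain ⟨m, c, d, z, a, b, rfl⟩ := h
  obtain ⟨m', c', d', z', rfl⟩ := h'
  have e : C.w m c d z * C.p a b * C.w m' c' d' z' * (C.w m c d z * C.p a b)⁻¹ =
      C.w m c d z * (C.p a b * C.w m' c' d' z' * (C.p a b)⁻¹) * (C.w m c d z)⁻¹ := by group
  rw [e, C.conj_p, C.w_comm, mul_inv_cancel_right]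
  exact C.w_mem _ _ _ _

/-- the action of a normal form on `W` -/
theorem conj_nf (m c d z a b m' c' d' z' : F) :
    C.w m c d z * C.p a b * C.w m' c' d' z' * (C.w m c d z * C.p a b)⁻¹ =
      C.w m' (c' + a * m') (d' + b * m') (z' + a * d' + b * c' + a * b * m') := by
  have e : C.w m c d z * C.p a b * C.w m' c' d' z' * (C.w m c d z * C.p a b)⁻¹ =
      C.w m c d z * (C.p a b * C.w m' c' d' z' * (C.p a b)⁻¹) * (C.w m c d z)⁻¹ := by group
  rw [e, C.conj_p, C.w_comm, mul_inv_cancel_right]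

/-- the `p`-part modulo `W` -/
theorem nf_mod {m c d z a b : F} {g : G} (h : g ∈ C.W) :
    ∃ m' c' d' z', g * (C.w m c d z * C.p a b) = C.w m' c' d' z' * C.p a b := by
  obtain ⟨m', c', d', z', rfl⟩ := h
  exact ⟨_, _, _, _, by rw [← mul_assoc, C.w_mul]⟩

theorem nf_mod' {m c d z a b : F} {g : G} (h : g ∈ C.W) :
    ∃ m' c' d' z', C.w m c d z * C.p a b * g = C.w m' c' d' z' * C.p a b := by
  obtain ⟨m', c', d', z', rfl⟩ := h
  exact ⟨_, _, _, _, by rw [mul_assoc, C.p_w, ← mul_assoc, C.w_mul]⟩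

/-! ### the `p`-part of an element of `S` -/

/-- `g ∈ S` has `p`-part `(a, b)` -/
def Pt (C : Crd B G) (g : G) (a b : F) : Prop := ∃ m c d z, g = C.w m c d z * C.p a b

theorem pt_nf (m c d z a b : F) : C.Pt (C.w m c d z * C.p a b) a b := ⟨_, _, _, _, rfl⟩

theorem pt_p (a b : F) : C.Pt (C.p a b) a b := ⟨0, 0, 0, 0, by rw [C.w_zero, one_mul]⟩

theorem pt_W {g : G} (h : g ∈ C.W) : C.Pt g 0 0 := by
  obtain ⟨m, c, d, z, rfl⟩ := h
  exact ⟨m, c, d, z, by rw [C.p_zero, mul_one]⟩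

variable {C} in
theorem Pt.mem_W {g : G} (h : C.Pt g 0 0) : g ∈ C.W := by
  obtain ⟨m, c, d, z, rfl⟩ := h
  rw [C.p_zero, mul_one]
  exact C.w_mem _ _ _ _

variable {C} in
theorem Pt.mem_S {g : G} {a b : F} (h : C.Pt g a b) : g ∈ C.S := by
  obtain ⟨m, c, d, z, rfl⟩ := h
  exact ⟨_, _, _, _, _, _, rfl⟩

theorem exists_pt {g : G} (h : g ∈ C.S) : ∃ a b, C.Pt g a b := by
  obtain ⟨m, c, d, z, a, b, rfl⟩ := h
  exact ⟨a, b, C.pt_nf _ _ _ _ _ _⟩

variable {C} in
theorem Pt.mul {g k : G} {a b a' b' : F} (h : C.Pt g a b) (h' : C.Pt k a' b') : C.Pt (g * k) (a + a') (b + b') := by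
  obtain ⟨m, c, d, z, rfl⟩ := h
  obtain ⟨m', c', d', z', rfl⟩ := h'
  exact ⟨_, _, _, _, C.nf_mul _ _ _ _ _ _ _ _ _ _ _ _⟩

variable {C} in
theorem Pt.inv {g : G} {a b : F} (h : C.Pt g a b) : C.Pt g⁻¹ a b := by
  obtain ⟨m, c, d, z, rfl⟩ := h
  exact ⟨_, _, _, _, by rw [mul_inv_rev, C.w_inv, C.p_inv, C.p_w]⟩

variable {C} in
theorem Pt.unique {g : G} {a b a' b' : F} (h : C.Pt g a b) (h' : C.Pt g a' b') : a = a' ∧ b = b' := by
  obtain ⟨m, c, d, z, rfl⟩ := h
  obtain ⟨m', c', d', z', e⟩ := h'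
  obtain ⟨-, -, -, -, h1, h2⟩ := C.nf_inj e
  exact ⟨h1, h2⟩

variable {C} in
theorem Pt.congr {g : G} {a b a' b' : F} (h : C.Pt g a b) (h1 : a = a') (h2 : b = b') : C.Pt g a' b' := by
  subst h1 h2; exact h

variable {C} in
theorem Pt.conj {g k : G} {a b a' b' : F} (h : C.Pt g a b) (h' : C.Pt k a' b') : C.Pt (g * k * g⁻¹) a' b' := by
  refine ((h.mul h').mul h.inv).congr ?_ ?_
  · have := CharTwo.add_self_eq_zero a
    linear_combination this
  · have := CharTwo.add_self_eq_zero b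
    linear_combination this

variable {C} in
theorem Pt.div {g k : G} {a b : F} (h : C.Pt g a b) (h' : C.Pt k a b) : g⁻¹ * k ∈ C.W := by
  refine ((h.inv.mul h').congr ?_ ?_).mem_W <;> exact CharTwo.add_self_eq_zero _

theorem comm_mem_W {g k : G} (hg : g ∈ C.S) (hk : k ∈ C.S) : g * k * g⁻¹ * k⁻¹ ∈ C.W := by
  obtain ⟨a, b, h1⟩ := C.exists_pt hg
  obtain ⟨a', b', h2⟩ := C.exists_pt hk
  refine (((h1.conj h2).mul h2.inv).congr ?_ ?_).mem_W <;> exact CharTwo.add_self_eq_zero _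

theorem sq_mem_W {g : G} (hg : g ∈ C.S) : g * g ∈ C.W := by
  obtain ⟨a, b, h1⟩ := C.exists_pt hg
  refine ((h1.mul h1).congr ?_ ?_).mem_W <;> exact CharTwo.add_self_eq_zero _

/-! ### the order -/

section card

theorem card_W : Nat.card C.W = Nat.card F ^ 4 := by
  have e : (F × F × F × F) ≃ C.W := Equiv.ofBijective
    (fun x => ⟨C.w x.1 x.2.1 x.2.2.1 x.2.2.2, C.w_mem _ _ _ _⟩) ⟨by
      rintro ⟨m, c, d, z⟩ ⟨m', c', d', z'⟩ h
      obtain ⟨h1, h2, h3, h4⟩ := C.w_injective (congrArg Subtype.val h)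
      simp only at h1 h2 h3 h4
      rw [h1, h2, h3, h4], by
      rintro ⟨_, m, c, d, z, rfl⟩
      exact ⟨(m, c, d, z), rfl⟩⟩
  rw [← Nat.card_congr e]
  simp only [Nat.card_prod]
  ring

theorem card_S : Nat.card C.S = Nat.card F ^ 6 := by
  have e : (F × F × F × F × F × F) ≃ C.S := Equiv.ofBijective
    (fun x => ⟨C.w x.1 x.2.1 x.2.2.1 x.2.2.2.1 * C.p x.2.2.2.2.1 x.2.2.2.2.2, ⟨_, _, _, _, _, _, rfl⟩⟩) ⟨by
      rintro ⟨m, c, d, z, a, b⟩ ⟨m', c', d', z', a', b'⟩ h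
      obtain ⟨h1, h2, h3, h4, h5, h6⟩ := C.nf_inj (congrArg Subtype.val h)
      simp only at h1 h2 h3 h4 h5 h6
      rw [h1, h2, h3, h4, h5, h6], by
      rintro ⟨_, m, c, d, z, a, b, rfl⟩
      exact ⟨(m, c, d, z, a, b), rfl⟩⟩
  rw [← Nat.card_congr e]
  simp only [Nat.card_prod]
  ring

end card

/-! ### semilinear actions -/

/-- `h` acts on the coordinates through the field automorphism `σ`, with (`sw = true`) or without the graph automorphism. -/
structure Ac (C : Crd B G) (σ : F ≃+* F) (sw : Bool) (h : G) : Prop where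
  w : ∀ m c d z, h * C.w m c d z = C.w (σ m) (bif sw then σ d else σ c) (bif sw then σ c else σ d) (σ z) * h
  p : ∀ a b, h * C.p a b = C.p (bif sw then σ b else σ a) (bif sw then σ a else σ b) * h

theorem ac_t : C.Ac B.s true C.t := ⟨C.t_w, C.t_p⟩

theorem ac_one : C.Ac 1 false 1 :=
  ⟨fun m c d z => by rw [one_mul, mul_one]; rfl, fun a b => by rw [one_mul, mul_one]; rfl⟩

variable {C}

theorem Ac.mul {σ τ : F ≃+* F} {x y : Bool} {g h : G} (hg : C.Ac σ x g) (hh : C.Ac τ y h) :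
    C.Ac (σ * τ) (xor x y) (g * h) := by
  constructor
  · intro m c d z
    rw [mul_assoc, hh.w, ← mul_assoc, hg.w, mul_assoc]
    cases x <;> cases y <;> rfl
  · intro a b
    rw [mul_assoc, hh.p, ← mul_assoc, hg.p, mul_assoc]
    cases x <;> cases y <;> rfl

theorem Ac.inv {σ : F ≃+* F} {x : Bool} {g : G} (hg : C.Ac σ x g) : C.Ac σ⁻¹ x g⁻¹ := by
  have key : ∀ y, σ (σ⁻¹ y) = y := fun y => σ.apply_symm_apply y
  constructor
  · intro m c d z
    rw [inv_mul_eq_iff_eq_mul, ← mul_assoc, hg.w]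
    cases x <;> simp only [cond_true, cond_false, key, mul_inv_cancel_right]
  · intro a b
    rw [inv_mul_eq_iff_eq_mul, ← mul_assoc, hg.p]
    cases x <;> simp only [cond_true, cond_false, key, mul_inv_cancel_right]

theorem Ac.conj_w {σ : F ≃+* F} {x : Bool} {g : G} (hg : C.Ac σ x g) (m c d z : F) :
    g * C.w m c d z * g⁻¹ = C.w (σ m) (bif x then σ d else σ c) (bif x then σ c else σ d) (σ z) := by
  rw [hg.w, mul_inv_cancel_right]

theorem Ac.conj_p {σ : F ≃+* F} {x : Bool} {g : G} (hg : C.Ac σ x g) (a b : F) :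
    g * C.p a b * g⁻¹ = C.p (bif x then σ b else σ a) (bif x then σ a else σ b) := by
  rw [hg.p, mul_inv_cancel_right]

theorem Ac.conj_nf {σ : F ≃+* F} {x : Bool} {g : G} (hg : C.Ac σ x g) (m c d z a b : F) :
    g * (C.w m c d z * C.p a b) * g⁻¹ =
      C.w (σ m) (bif x then σ d else σ c) (bif x then σ c else σ d) (σ z) *
        C.p (bif x then σ b else σ a) (bif x then σ a else σ b) := by
  rw [← hg.conj_w, ← hg.conj_p]
  group

theorem Ac.conj_S {σ : F ≃+* F} {x : Bool} {g k : G} (hg : C.Ac σ x g) (hk : k ∈ C.S) : g * k * g⁻¹ ∈ C.S := by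
  obtain ⟨m, c, d, z, a, b, rfl⟩ := hk
  rw [hg.conj_nf]
  exact ⟨_, _, _, _, _, _, rfl⟩

theorem Ac.conj_W {σ : F ≃+* F} {x : Bool} {g k : G} (hg : C.Ac σ x g) (hk : k ∈ C.W) : g * k * g⁻¹ ∈ C.W := by
  obtain ⟨m, c, d, z, rfl⟩ := hk
  rw [hg.conj_w]
  exact ⟨_, _, _, _, rfl⟩

theorem Ac.pt {σ : F ≃+* F} {x : Bool} {g k : G} (hg : C.Ac σ x g) {a b : F} (hk : C.Pt k a b) :
    C.Pt (g * k * g⁻¹) (bif x then σ b else σ a) (bif x then σ a else σ b) := by
  obtain ⟨m, c, d, z, rfl⟩ := hk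
  exact ⟨_, _, _, _, hg.conj_nf m c d z a b⟩

/-- an element of `S` acting semilinearly acts trivially -/
theorem Ac.of_mem_S {σ : F ≃+* F} {x : Bool} {g : G} (hg : C.Ac σ x g) (h : g ∈ C.S) : σ = 1 ∧ x = false := by
  obtain ⟨m, c, d, z, a, b, rfl⟩ := h
  have key : ∀ a' b', C.w m c d z * C.p a b * C.p a' b' = C.w m c d z * C.p (a + a') (b + b') := fun a' b' => by
    rw [mul_assoc, C.p_mul]
  have key2 : ∀ a' b', ∃ m' c' d' z', C.p a' b' * (C.w m c d z * C.p a b) = C.w m' c' d' z' * C.p (a' + a) (b' + b) :=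
    fun a' b' => ⟨_, _, _, _, by rw [← mul_assoc, C.p_w, mul_assoc, C.p_mul]⟩
  have h1 : ∀ a' b', (bif x then σ b' else σ a') = a' ∧ (bif x then σ a' else σ b') = b' := by
    intro a' b'
    have h2 := hg.p a' b'
    rw [key] at h2
    obtain ⟨_, _, _, _, h3⟩ := key2 (bif x then σ b' else σ a') (bif x then σ a' else σ b')
    rw [h3] at h2
    obtain ⟨-, -, -, -, e1, e2⟩ := C.nf_inj h2
    constructor
    · linear_combination -e1
    · linear_combination -e2
  have hx : x = false := by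
    cases x
    · rfl
    · have := (h1 1 0).1
      simp only [cond_true, map_zero] at this
      exact absurd this zero_ne_one
  subst hx
  exact ⟨RingEquiv.ext fun y => (h1 y 0).1, rfl⟩

end Crd

end Cfsg.Agent.StdRank2.UFourEnd
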