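import Cfsg.Agent.StdRank2.UFourEnd.Core
import Cfsg.Agent.StdEven.Syl

/-!
# The closing of type `U₄(q)` in the field case: the group `P = S T`

`Hyp C T H`: `T` is a 2-group centralising `t`, `H ≤ T` acts semilinearly and faithfully, every element of `T` is in `H` modulo
`S ⊓ T`; `S ⊔ T = S H`.
-/

set_option autoImplicit false
set_option linter.unusedSectionVars false

namespace Cfsg.Agent.StdRank2.UFourEnd

open Subgroup Cfsg.Agent.StdRank2.UFour

variable {F : Type*} [Field F] [CharP F 2] {B : Bar F} {G : Type*} [Group G]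

/-! ### counting -/

/-- If the fibres of `κ` on `E` are contained in cosets of `S`, then `|E| ≤ |α| |E ⊓ S|`. -/
theorem card_le_mul [Finite G] {α : Type*} [Finite α] (E S : Subgroup G) (κ : G → α)
    (hκ : ∀ e ∈ E, ∀ e' ∈ E, κ e = κ e' → e⁻¹ * e' ∈ S) :
    Nat.card E ≤ Nat.card α * Nat.card (E ⊓ S : Subgroup G) := by
  classical
  let rep : α → G := fun a => if h : ∃ e ∈ E, κ e = a then h.choose else 1
  have hrep : ∀ e ∈ E, rep (κ e) ∈ E ∧ κ (rep (κ e)) = κ e := by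
    intro e he
    have h : ∃ e' ∈ E, κ e' = κ e := ⟨e, he, rfl⟩
    have h2 : rep (κ e) = h.choose := dif_pos h
    rw [h2]
    exact h.choose_spec
  rw [← Nat.card_prod]
  refine Nat.card_le_card_of_injective (fun e : E => (κ e, (⟨(rep (κ e))⁻¹ * e, mem_inf.2
    ⟨mul_mem (inv_mem (hrep e e.2).1) e.2, hκ _ (hrep e e.2).1 _ e.2 (hrep e e.2).2⟩⟩ : (E ⊓ S : Subgroup G)))) ?_
  intro e e' h
  have h1 : κ e = κ e' := congrArg Prod.fst h
  have h2 : (rep (κ e))⁻¹ * (e : G) = (rep (κ e'))⁻¹ * e' := congrArg (fun x => ((x.2 : (E ⊓ S : Subgroup G)) : G)) h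
  rw [h1] at h2
  exact Subtype.ext (mul_left_cancel h2)

/-- The hypotheses on `T`. -/
structure Hyp (C : Crd B G) (T H : Subgroup G) : Prop where
  T2 : IsPGroup 2 T
  tH : C.t ∈ H
  HT : H ≤ T
  TC : ∀ y ∈ T, y * C.t = C.t * y
  ac : ∀ y ∈ H, ∃ σ x, C.Ac σ x y
  ker : ∀ y ∈ H, C.Ac 1 false y → y = 1
  ad : ∀ y ∈ T, ∃ u ∈ C.S, u ∈ T ∧ u * y ∈ H
  UT : ∀ g ∈ C.S, g * C.t = C.t * g → g ∈ T

namespace Hyp

variable {C : Crd B G} {T H : Subgroup G} (h : Hyp C T H)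

include h

theorem tT : C.t ∈ T := h.HT h.tH

theorem ac_eq {σ : F ≃+* F} {x : Bool} (h1 : C.Ac σ x 1) : σ = 1 ∧ x = false := h1.of_mem_S (one_mem _)

/-- `σ`, `x` are determined by the element -/
theorem ac_unique {σ τ : F ≃+* F} {x y : Bool} {g : G} (h1 : C.Ac σ x g) (h2 : C.Ac τ y g) : σ = τ ∧ x = y := by
  have h3 := h1.mul h2.inv
  rw [mul_inv_cancel] at h3
  obtain ⟨h4, h5⟩ := h.ac_eq h3
  refine ⟨by rw [mul_inv_eq_one] at h4; exact h4, ?_⟩
  cases x <;> cases y <;> simp_all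

/-- the element is determined by `σ`, `x` -/
theorem eq_of_ac {σ : F ≃+* F} {x : Bool} {g k : G} (hg : g ∈ H) (hk : k ∈ H) (h1 : C.Ac σ x g)
    (h2 : C.Ac σ x k) : g = k := by
  have h3 := h1.mul h2.inv
  rw [mul_inv_cancel, Bool.xor_self] at h3
  have h4 := h.ker _ (mul_mem hg (inv_mem hk)) h3
  rwa [mul_inv_eq_one] at h4

theorem eq_one_of_mem {y : G} (hy : y ∈ H) (hyS : y ∈ C.S) : y = 1 := by
  obtain ⟨σ, x, hac⟩ := h.ac y hy
  obtain ⟨rfl, rfl⟩ := hac.of_mem_S hyS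
  exact h.ker y hy hac

theorem conj_S {y s : G} (hy : y ∈ H) (hs : s ∈ C.S) : y * s * y⁻¹ ∈ C.S := by
  obtain ⟨σ, x, hac⟩ := h.ac y hy
  exact hac.conj_S hs

theorem conj_W {y s : G} (hy : y ∈ H) (hs : s ∈ C.W) : y * s * y⁻¹ ∈ C.W := by
  obtain ⟨σ, x, hac⟩ := h.ac y hy
  exact hac.conj_W hs

theorem mem_P {g : G} : g ∈ C.S ⊔ T ↔ ∃ s ∈ C.S, ∃ y ∈ H, g = s * y := by
  constructor
  · let Y : Subgroup G :=
      { carrier := {g | ∃ s ∈ C.S, ∃ y ∈ H, g = s * y}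
        one_mem' := ⟨1, one_mem _, 1, one_mem _, by simp⟩
        mul_mem' := by
          rintro _ _ ⟨a, ha, b, hb, rfl⟩ ⟨a', ha', b', hb', rfl⟩
          exact ⟨a * (b * a' * b⁻¹), mul_mem ha (h.conj_S hb ha'), b * b', mul_mem hb hb', by group⟩
        inv_mem' := by
          rintro _ ⟨a, ha, b, hb, rfl⟩
          exact ⟨b⁻¹ * a⁻¹ * b⁻¹⁻¹, h.conj_S (inv_mem hb) (inv_mem ha), b⁻¹, inv_mem hb, by group⟩ }
    have h1 : C.S ⊔ T ≤ Y := by
      refine sup_le (fun a ha => ⟨a, ha, 1, one_mem _, by simp⟩) (fun y hy => ?_)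
      obtain ⟨u, huS, huT, hH⟩ := h.ad y hy
      exact ⟨u⁻¹, inv_mem huS, u * y, hH, by group⟩
    exact fun hg => h1 hg
  · rintro ⟨s, hs, x, hx, rfl⟩
    exact mul_mem (mem_sup_left hs) (mem_sup_right (h.HT hx))

theorem unique_decomp {s s' y y' : G} (hs : s ∈ C.S) (hs' : s' ∈ C.S) (hy : y ∈ H) (hy' : y' ∈ H)
    (e : s * y = s' * y') : s = s' ∧ y = y' := by
  have h1 : s'⁻¹ * s = y' * y⁻¹ := by
    have : s = s' * y' * y⁻¹ := by rw [← e]; group
    rw [this]; group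
  have h2 := h.eq_one_of_mem (mul_mem hy' (inv_mem hy)) (by rw [← h1]; exact mul_mem (inv_mem hs') hs)
  rw [mul_inv_eq_one] at h2
  rw [h2] at e
  exact ⟨mul_right_cancel e, h2.symm⟩

theorem conj_S' {g s : G} (hg : g ∈ C.S ⊔ T) (hs : s ∈ C.S) : g * s * g⁻¹ ∈ C.S := by
  obtain ⟨a, ha, y, hy, rfl⟩ := h.mem_P.1 hg
  have : a * y * s * (a * y)⁻¹ = a * (y * s * y⁻¹) * a⁻¹ := by group
  rw [this]
  exact mul_mem (mul_mem ha (h.conj_S hy hs)) (inv_mem ha)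

theorem conj_W' {g s : G} (hg : g ∈ C.S ⊔ T) (hs : s ∈ C.W) : g * s * g⁻¹ ∈ C.W := by
  obtain ⟨a, ha, y, hy, rfl⟩ := h.mem_P.1 hg
  have : a * y * s * (a * y)⁻¹ = a * (y * s * y⁻¹) * a⁻¹ := by group
  rw [this]
  exact C.conj_W ha (h.conj_W hy hs)

theorem T_le_normalizer : T ≤ normalizer (C.S : Set G) := by
  have h1 : ∀ y ∈ T, ∀ s ∈ C.S, y * s * y⁻¹ ∈ C.S := fun y hy s hs => h.conj_S' (mem_sup_right hy) hs
  intro y hy
  rw [mem_normalizer_iff]
  intro s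
  refine ⟨h1 y hy s, fun hs => ?_⟩
  have h2 := h1 _ (inv_mem hy) _ hs
  have h3 : y⁻¹ * (y * s * y⁻¹) * y⁻¹⁻¹ = s := by group
  rwa [h3] at h2

theorem two_S : IsPGroup 2 C.S := by
  rintro ⟨g, m, c, d, z, a, b, rfl⟩
  refine ⟨2, Subtype.ext ?_⟩
  show (C.w m c d z * C.p a b) ^ 2 ^ 2 = 1
  have h1 : (C.w m c d z * C.p a b) * (C.w m c d z * C.p a b) ∈ C.W := by
    rw [C.nf_mul, CharTwo.add_self_eq_zero a, CharTwo.add_self_eq_zero b, C.p_zero, mul_one]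
    exact C.w_mem _ _ _ _
  have h2 := C.W_sq h1
  rw [show 2 ^ 2 = 2 * 2 from rfl, pow_mul, pow_two, pow_two]
  exact h2

theorem two_P : IsPGroup 2 (C.S ⊔ T : Subgroup G) := h.two_S.to_sup_of_normal_left' h.T2 h.T_le_normalizer

/-- the semilinear part -/
theorem H_sq {y : G} (hy : y ∈ H) {s : G} (hs : s ∈ C.S) (e : s * y * (s * y) ∈ C.S) : y * y = 1 := by
  apply h.eq_one_of_mem (mul_mem hy hy)
  have : y * y = (y * s * y⁻¹)⁻¹ * (s⁻¹ * (s * y * (s * y))) := by group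
  rw [this]
  exact mul_mem (inv_mem (h.conj_S hy hs)) (mul_mem (inv_mem hs) e)

/-- the field automorphism of an involution of `H` -/
theorem invol_cases [Finite F] {y : G} (hyy : y * y = 1) {σ : F ≃+* F} {x : Bool} (hac : C.Ac σ x y) :
    σ = 1 ∨ σ = B.s := by
  by_cases h1 : σ = 1
  · exact Or.inl h1
  right
  have h2 := hac.mul hac
  rw [hyy] at h2
  have h3 := (h.ac_eq h2).1
  refine OutField.unique_invol h3 (RingEquiv.ext fun y => B.invol y) h1 ?_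
  intro h4
  obtain ⟨z, hz⟩ := B.ne
  apply hz
  rw [h4]; rfl

/-- `1 = H_1`: the elements with square 1 of `H`. -/
theorem card_H1 [Finite F] [Finite G] : Nat.card {y : G // y ∈ H ∧ y * y = 1} ≤ 4 := by
  classical
  have hex : ∀ y : {y : G // y ∈ H ∧ y * y = 1}, ∃ σ x, C.Ac σ x (y : G) := fun y => h.ac y y.2.1
  choose σ x hac using hex
  have h4 : Nat.card (Bool × Bool) = 4 := by simp [Nat.card_prod]
  rw [← h4]
  refine Nat.card_le_card_of_injective (fun y => (x y, decide (σ y = 1))) ?_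
  intro y y' e
  have e1 : x y = x y' := congrArg Prod.fst e
  have e2 : decide (σ y = 1) = decide (σ y' = 1) := congrArg Prod.snd e
  have e3 : σ y = σ y' := by
    rcases h.invol_cases y.2.2 (hac y) with h1 | h1 <;> rcases h.invol_cases y'.2.2 (hac y') with h2 | h2
    · rw [h1, h2]
    · by_cases hs : B.s = 1
      · rw [h1, h2, hs]
      · exfalso
        rw [h1, h2] at e2
        simp [hs] at e2
    · by_cases hs : B.s = 1
      · rw [h1, h2, hs]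
      · exfalso
        rw [h1, h2] at e2
        simp [hs] at e2
    · rw [h1, h2]
  apply Subtype.ext
  refine h.eq_of_ac y.2.1 y'.2.1 (hac y) ?_
  rw [e3, e1]
  exact hac y'

/-- A subgroup of `P` in which every `H`-part has square 1. -/
theorem card_le_four [Finite F] [Finite G] (E : Subgroup G) (hE : E ≤ C.S ⊔ T)
    (h2 : ∀ e ∈ E, e * e ∈ C.S) : Nat.card E ≤ 4 * Nat.card (E ⊓ C.S : Subgroup G) := by
  classical
  have hex : ∀ g : G, ∃ y : {y : G // y ∈ H ∧ y * y = 1}, g ∈ E → ∃ s ∈ C.S, g = s * y := by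
    intro g
    by_cases hg : g ∈ E
    · obtain ⟨s, hs, y, hy, e⟩ := h.mem_P.1 (hE hg)
      exact ⟨⟨y, hy, h.H_sq hy hs (by rw [← e]; exact h2 g hg)⟩, fun _ => ⟨s, hs, e⟩⟩
    · exact ⟨⟨1, one_mem _, one_mul _⟩, fun h => absurd h hg⟩
  choose κ hκ using hex
  have h1 := card_le_mul E C.S κ (by
    intro e he e' he' hee
    obtain ⟨s, hs, h3⟩ := hκ e he
    obtain ⟨s', hs', h4⟩ := hκ e' he'
    rw [hee] at h3
    have h5 : ∀ k : G, e = s * k → e' = s' * k → e⁻¹ * e' = k⁻¹ * (s⁻¹ * s') * k⁻¹⁻¹ := by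
      rintro k rfl rfl; group
    rw [h5 _ h3 h4]
    exact h.conj_S (inv_mem (κ e').2.1) (mul_mem (inv_mem hs) hs'))
  exact h1.trans (Nat.mul_le_mul_right _ h.card_H1)

end Hyp

end Cfsg.Agent.StdRank2.UFourEnd
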