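import Cfsg.Agent.StdRank2.UFourEnd.PureX
import Cfsg.Agent.StdRank2.UFourEnd.Hyp

/-!
# The group `T` in the coordinates of the grown group, type `U₄(q)`, field case

`TF N S T` : the elements of field type of `T`.  `hyp` : `T`, `TF N S T` satisfy the hypotheses of the closing.
-/

set_option autoImplicit false
set_option linter.unusedSectionVars false

namespace Cfsg.Agent.StdRank2.UFourEnd.PureX

open Subgroup
open Cfsg.Agent.TitsThree.B2Pkg Cfsg.Agent.TitsThree.RankTwoIdentB2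
  Cfsg.Agent.TitsThree.CoreB2 Cfsg.Agent.TitsThree.RankTwoIdx Cfsg.Agent.TitsThree.RankTwoRGD
  Cfsg.Agent.TitsThree.StdData
open Cfsg.Agent.StdRank2.OddLift Cfsg.Agent.StdRank2.B2Lift Cfsg.Agent.StdRank2.B2Std
  Cfsg.Agent.StdRank2.B2Torus Cfsg.Agent.StdRank2.B2Act Cfsg.Agent.StdRank2.B2Act.Std
  Cfsg.Agent.StdRank2.B2Amb Cfsg.Agent.StdRank2.UFour Cfsg.Agent.StdRank2.B2Conn
  Cfsg.Agent.StdRank2.UEnvW Cfsg.Agent.StdRank2.UEnv4
open Cfsg.Agent.StdRank2.OutB2G Cfsg.Agent.StdRank2.OutB2Aut Cfsg.Agent.StdRank2.OutB2Inv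
  Cfsg.Agent.StdRank2.OutB2Data
open Cfsg.Agent.StdRank2.TX Cfsg.Agent.StdRank2.TXNorm Cfsg.Agent.StdRank2.TXAct
open Cfsg.Agent.StdRank2.UFourId Cfsg.Agent.StdRank2.UFourId.VSec

universe u

/-! ### Elements of the grown group commuting with `t` -/

section cent

variable {F : Type*} [Field F] [CharP F 2] {B : Bar F} {G : Type*} [Group G] {E : Env B G} {Gr : Grown E}
variable {d : B.K} {pa pc : F → G} {pb pz : B.K → G} (h : Lab Gr d pa pc pb pz)
  {ε : F} (h1 : ε + B.s ε = 1) (h2 : ε * B.s ε = (d : F))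

/-- Elements of `Sh Gr` commuting with `t` lie in `U`. -/
theorem mem_UU_of_comm {g : G} (hg : g ∈ (crd h h1 h2).S) (hgt : g * E.t = E.t * g) :
    g ∈ SeedPre.UU E.toWEnv := by
  obtain ⟨m, c, c', z, a, b, rfl⟩ := (crd h h1 h2).mem_S.1 hg
  have e1 := ((crd h h1 h2).ac_t).conj_nf m c c' z a b
  have e2 : (crd h h1 h2).t * ((crd h h1 h2).w m c c' z * (crd h h1 h2).p a b) * (crd h h1 h2).t⁻¹ =
      (crd h h1 h2).w m c c' z * (crd h h1 h2).p a b := by
    rw [mul_inv_eq_iff_eq_mul]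
    exact hgt.symm
  rw [e2] at e1
  simp only [cond_true] at e1
  obtain ⟨q1, q2, q3, q4, q5, q6⟩ := (crd h h1 h2).nf_inj e1
  refine SeedPre.mem_UU.2 ⟨(crd h h1 h2).w m c c' z, ?_, B.s ε * a + ε * B.s b, ?_⟩
  · have e3 : (vec ε m c c' z : Vh B) = ((0, B.tr (B.s ε * z)), (0, B.s ε * c + ε * B.s c'), (0, B.tr (B.s ε * m))) := by
      apply Vh_ext
      · apply Subtype.ext
        show z + B.s z = 0
        rw [← q4]; exact CharTwo.add_self_eq_zero z
      · rfl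
      · show c + B.s c' = 0
        rw [← q2]; exact CharTwo.add_self_eq_zero c
      · rfl
      · apply Subtype.ext
        show m + B.s m = 0
        rw [← q1]; exact CharTwo.add_self_eq_zero m
      · rfl
    show Wh E.toWEnv pc pb pz (vec ε m c c' z) ∈ E.Q
    rw [e3]
    have e4 : Wh E.toWEnv pc pb pz ((0, B.tr (B.s ε * z)), (0, B.s ε * c + ε * B.s c'), (0, B.tr (B.s ε * m))) =
        E.w (B.tr (B.s ε * z), B.s ε * c + ε * B.s c', B.tr (B.s ε * m)) := by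
      unfold Wh WEnv.w
      rw [h.pz_zero, h.pc_zero, h.pb_zero, one_mul, one_mul, one_mul]
    rw [e4]
    exact E.w_mem_Q _
  · have e5 : a + B.s b = 0 := by
      rw [← q5]; exact CharTwo.add_self_eq_zero a
    show _ = _ * E.xa (B.s ε * a + ε * B.s b)
    have e6 : (crd h h1 h2).p a b = E.xa (B.s ε * a + ε * B.s b) := by
      show pa (a + B.s b) * E.xa (B.s ε * a + ε * B.s b) = _
      rw [e5, WEnv.hom_zero h.a.add, one_mul]
    rw [e6]

end cent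

/-! ### The elements of field type of `T` -/

section TF

variable {G : Type u} [Group G] {A : Subgroup G} {t : G}
variable {F : Type*} [Field F] {V : Type*} [AddCommGroup V] [Module F V] {D : PQDatum F V}

/-- the elements of field type of `T` -/
def TF (N : FData D) (S : Std D ↥A) (T : Subgroup G) : Subgroup G where
  carrier := {f | f ∈ T ∧ ∃ ρ : F ≃+* F, Fld N S f ρ}
  one_mem' := ⟨one_mem _, 1, fld_one⟩
  mul_mem' := by
    rintro a b ⟨ha, σ, hσ⟩ ⟨hb, σ', hσ'⟩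
    exact ⟨mul_mem ha hb, σ * σ', fld_mul hσ hσ'⟩
  inv_mem' := by
    rintro a ⟨ha, σ, hσ⟩
    exact ⟨inv_mem ha, σ⁻¹, fld_inv hσ⟩

theorem mem_TF {N : FData D} {S : Std D ↥A} {T : Subgroup G} {f : G} :
    f ∈ TF N S T ↔ f ∈ T ∧ ∃ ρ : F ≃+* F, Fld N S f ρ := Iff.rfl

end TF

section four

variable {G : Type u} [Group G] [Finite G] {A : Subgroup G} {t : G} {T : Subgroup G}
variable {F : Type*} [Field F] [Finite F] [CharP F 2] {B : Bar F}
variable {N : FData (stdU0 F B.s B.invol)} {S : Std (stdU0 F B.s B.invol) ↥A}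
variable (hy : UEnvW.Hyp S B t) {lam : B.K} (h0 : lam ≠ 0) (hl : lam ≠ 1)
variable {Gr : UFour.Grown (env4 S hy h0 hl)} {d : B.K} {pa pc : F → G} {pb pz : B.K → G}
  (h : Lab Gr d pa pc pb pz) {ε : F} (h1 : ε + B.s ε = 1) (h2 : ε * B.s ε = (d : F)) (hT : TSit N S t T)

include hT

theorem fld_ac {f : G} {ρ : F ≃+* F} (hf : f ∈ T) (hF : Fld N S f ρ) :
    (crd h h1 h2).Ac ρ false f ∨ (crd h h1 h2).Ac (B.s * ρ) true f := by
  obtain ⟨i1, i2⟩ := fact4 hy h0 hl (hT.comm f hf) hF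
  exact exists_ac h h1 h2 i1 (fun g hg => i1.A4 i2 Gr hg)

theorem TF_ac : ∀ y ∈ TF N S T, ∃ σ x, (crd h h1 h2).Ac σ x y := by
  rintro y ⟨hy', ρ, hF⟩
  rcases fld_ac hy h0 hl h h1 h2 hT hy' hF with h3 | h3
  · exact ⟨_, _, h3⟩
  · exact ⟨_, _, h3⟩

theorem ac_unique' {C : Crd B G} {σ τ : F ≃+* F} {x y : Bool} {g : G} (e1 : C.Ac σ x g) (e2 : C.Ac τ y g) :
    σ = τ ∧ x = y := by
  have h3 := e1.mul e2.inv
  rw [mul_inv_cancel] at h3
  obtain ⟨h4, h5⟩ := h3.of_mem_S (one_mem _)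
  refine ⟨by rw [mul_inv_eq_one] at h4; exact h4, ?_⟩
  cases x <;> cases y <;> simp_all

theorem TF_ker : ∀ y ∈ TF N S T, (crd h h1 h2).Ac 1 false y → y = 1 := by
  rintro y ⟨hyT, ρ, hF⟩ hac
  rcases fld_ac hy h0 hl h h1 h2 hT hyT hF with h3 | h3
  · obtain ⟨e1, -⟩ := ac_unique' hT hac h3
    subst e1
    rcases hT.eq_of_fld hyT hF with h4 | h4
    · exact h4
    · subst h4
      have h5 := (crd h h1 h2).ac_t
      exact absurd (ac_unique' hT hac h5).2 (by simp)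
  · exact absurd (ac_unique' hT hac h3).2 (by simp)

theorem TF_ad : ∀ y ∈ T, ∃ u ∈ (crd h h1 h2).S, u ∈ T ∧ u * y ∈ TF N S T := by
  intro y hy'
  obtain ⟨u, hu, ρ, hk, hF⟩ := hT.ad y hy'
  refine ⟨u, ?_, hT.U hu, mul_mem (hT.U hu) hy', ρ, hF⟩
  rw [crd_S]
  exact UG_le_Sh hy h0 hl Gr hu

theorem UT : ∀ g ∈ (crd h h1 h2).S, g * t = t * g → g ∈ T := by
  intro g hg hgt
  apply hT.U
  rw [UG_eq hy h0 hl]
  exact mem_UU_of_comm h h1 h2 hg hgt

theorem t_mem_TF : t ∈ TF N S T := ⟨hT.t_mem, 1, hT.t_fld⟩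

theorem TF_le : TF N S T ≤ T := fun _ h => h.1

/-- **The hypotheses of the closing.** -/
theorem hyp : UFourEnd.Hyp (crd h h1 h2) T (TF N S T) where
  T2 := hT.two
  tH := t_mem_TF hT
  HT := TF_le hT
  TC := hT.comm
  ac := TF_ac hy h0 hl h h1 h2 hT
  ad := TF_ad hy h0 hl h h1 h2 hT
  ker := TF_ker hy h0 hl h h1 h2 hT
  UT := UT hy h0 hl h h1 h2 hT

end four

end Cfsg.Agent.StdRank2.UFourEnd.PureX
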