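import Cfsg.Agent.StdRank2.UFourEnd.Lift
import Cfsg.Agent.StdRank2.UFourEnd.PureSit
import Cfsg.Agent.StdRank2.UFourEnd.Chain
import Cfsg.Agent.StdSpFour.CaseBSplit
import Cfsg.Agent.StdEven.Red

/-!
# S1778, type `U₄(q)`, `q ≥ 4`: the field case

`close4`: `t ∉ L` and `L` has a Sylow 2-subgroup isomorphic to `Sh Gr`.  `concl`: `Concl L t` from S1769.
-/

set_option autoImplicit false
set_option linter.unusedSectionVars false

namespace Cfsg.Agent.StdRank2.UFourEnd.Field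

open Cfsg Subgroup Cfsg.Agent.SignalizersComponents Cfsg.Agent.StdEven.Syl Cfsg.Agent.StdEven.Loc
open Cfsg.Agent.StdEven.CoreQuot Cfsg.Agent.StdL2.Setup Cfsg.Agent.StdEven.EndLift
open Cfsg.Agent.TitsThree.B2Pkg Cfsg.Agent.TitsThree.RankTwoIdentB2
  Cfsg.Agent.TitsThree.CoreB2 Cfsg.Agent.TitsThree.RankTwoIdx Cfsg.Agent.TitsThree.RankTwoRGD
  Cfsg.Agent.TitsThree.StdData
open Cfsg.Agent.StdRank2.B2Lift Cfsg.Agent.StdRank2.B2Std
  Cfsg.Agent.StdRank2.B2Amb Cfsg.Agent.StdRank2.UFour Cfsg.Agent.StdRank2.B2Conn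
open Cfsg.Agent.StdRank2.OutB2G Cfsg.Agent.StdRank2.OutB2Aut Cfsg.Agent.StdRank2.OutB2Inv
  Cfsg.Agent.StdRank2.OutB2Data
open Cfsg.Agent.StdRank2.TX Cfsg.Agent.StdRank2.UFour.SeedPre
open Cfsg.Agent.StdRank2.UFourId Cfsg.Agent.StdRank2.UFourEnd.PureX

universe u

/-! ### The grown group lies in every normal subgroup containing `A` -/

section le

variable {F : Type*} [Field F] [CharP F 2] {B : Bar F} {G : Type*} [Group G] {E : Env B G} {Gr : Grown E}
variable {d : B.K} {pa pc : F → G} {pb pz : B.K → G} (h : Lab Gr d pa pc pb pz)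

theorem sec_mem {M : Type*} [Field M] [CharP M 2] {E : WEnv B G} {x : M → G} {R : Subgroup G} {p : M → G}
    (hs : Sec E x R p) (N : Subgroup G) [N.Normal] {k : G} (hkN : k ∈ N) (hk : k ∈ E.T) {μ : Mˣ}
    (hμ : ∀ c, k * x c * k⁻¹ = x (μ * c)) (hμ1 : (μ : M) ≠ 1) (s : M) : p s ∈ N := by
  have h1 : (1 : M) + μ ≠ 0 := fun h0 => hμ1 (Crd.eq_of_add h0).symm
  have h2 := hs.tor k hk μ hμ (s * (1 + (μ : M))⁻¹)
  have h3 : p s = p (s * (1 + (μ : M))⁻¹) * (k * p (s * (1 + (μ : M))⁻¹) * k⁻¹) := by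
    rw [h2, ← hs.add]
    congr 1
    field_simp
  have h4 : p (s * (1 + (μ : M))⁻¹) * p (s * (1 + (μ : M))⁻¹) = 1 := by
    rw [← hs.add, CharTwo.add_self_eq_zero]
    exact WEnv.hom_zero hs.add
  have h5 : (p (s * (1 + (μ : M))⁻¹))⁻¹ = p (s * (1 + (μ : M))⁻¹) := inv_eq_of_mul_eq_one_right h4
  rw [h3]
  have h6 := (inferInstance : N.Normal).conj_mem k hkN (p (s * (1 + (μ : M))⁻¹))
  rw [h5] at h6
  have e : p (s * (1 + (μ : M))⁻¹) * (k * p (s * (1 + (μ : M))⁻¹) * k⁻¹) =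
      p (s * (1 + (μ : M))⁻¹) * k * p (s * (1 + (μ : M))⁻¹) * k⁻¹ := by group
  rw [e]
  exact mul_mem h6 (inv_mem hkN)

include h in
theorem Sh_le (N : Subgroup G) [N.Normal] (hh : ∀ μ ν, E.h μ ν ∈ N) (ha : ∀ x, E.xa x ∈ N) (hb : ∀ x, E.xb x ∈ N)
    (hc : ∀ x, E.xc x ∈ N) (hz : ∀ x, E.xz x ∈ N) : Sh Gr ≤ N := by
  have hl : ((E.lam : B.K) : F) ≠ 1 := fun h0 => E.lam_ne (Subtype.ext h0)
  have hl0 : ((E.lam : B.K) : F) ≠ 0 := fun h0 => E.lam.ne_zero (Subtype.ext h0)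
  have pa' : ∀ s, pa s ∈ N := fun s => sec_mem h.a N (hh (Units.mk0 _ hl0) 1) (E.h_mem _ _) (E.h_a _ _) hl s
  have pc' : ∀ s, pc s ∈ N := fun s => sec_mem h.c N (hh 1 E.lam) (E.h_mem _ _) (μ := Units.mk0 _ hl0)
    (fun c => by rw [E.h_c]; simp) hl s
  have pb' : ∀ s, pb s ∈ N := fun s => sec_mem h.b N (hh 1 E.lam) (E.h_mem _ _) (E.h_b _ _) E.lam_ne s
  have pz' : ∀ s, pz s ∈ N := fun s => sec_mem h.z N (hh 1 E.lam) (E.h_mem _ _) (μ := E.lam)
    (fun c => by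
      rw [E.h_z]
      congr 1
      apply Subtype.ext
      show (1 : F) * B.s 1 * _ * _ = _
      rw [map_one, one_mul, one_mul]; rfl) E.lam_ne s
  intro g hg
  obtain ⟨v, s, s', rfl⟩ := h.mem_Sh.1 hg
  exact mul_mem (mul_mem (mul_mem (mul_mem (pz' _) (hz _)) (mul_mem (pc' _) (hc _))) (mul_mem (pb' _) (hb _)))
    (mul_mem (pa' _) (ha _))

end le

section inst

variable {F : Type*} [Field F] [Finite F] [CharP F 2] {B : Bar F} {G : Type u} [Group G] [Finite G]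
variable {L A : Subgroup G} {t : G} {T : Subgroup G} (H : Cfsg.Agent.StdEven.CoreQuot.Hyp A t T) (S : Std (stdU0 F B.s B.invol) ↥A)
variable {N : FData (stdU0 F B.s B.invol)} {lam : B.K} (h0 : lam ≠ 0) (hl : lam ≠ 1)
variable (Gr : UFour.Grown (env4 H S h0 hl)) {d : B.K} {pa pc : F → XQ A t} {pb pz : B.K → XQ A t}
  (h : Lab Gr d pa pc pb pz) {ε : F} (h1 : ε + B.s ε = 1) (h2 : ε * B.s ε = (d : F))

/-- `Hyp` in `X`. -/
theorem hypX (hT : TSit N (imS H S) H.tX (im A t T)) :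
    UFourEnd.Hyp (crd h h1 h2) (im A t T) (TF N (imS H S) (im A t T)) where
  T2 := hT.two
  tH := t_mem_TF hT
  HT := TF_le hT
  TC := hT.comm
  ac := TF_ac (hyp4 H S) h0 hl h h1 h2 hT
  ker := TF_ker (hyp4 H S) h0 hl h h1 h2 hT
  ad := TF_ad (hyp4 H S) h0 hl h h1 h2 hT
  UT := UT (hyp4 H S) h0 hl h h1 h2 hT

include h in
theorem sh_le_im [L.Normal] (hAL : A ≤ L) : Sh Gr ≤ im A t L := by
  have hn : (im A t L).Normal := by
    have h1 : (L.subgroupOf (NO A t)).Normal := inferInstance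
    exact h1.map (pr A t) (pr_surjective A t)
  have hA : im A t A ≤ im A t L := im_mono hAL
  exact Sh_le h (im A t L) (fun μ ν => hA (Subtype.property _)) (fun x => hA (Subtype.property _))
    (fun x => hA (Subtype.property _)) (fun x => hA (Subtype.property _)) (fun x => hA (Subtype.property _))

include S h0 hl in
/-- The type independent data in `X`. -/
theorem endB4 (had : Adapted N S T) (hU : UG S ≤ T) :
    UClose.EndB (crd h h1 h2).S (im A t T) H.tX (im A t A) := by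
  have hs := tsit H had hU
  have hX := hypX H S h0 hl Gr h h1 h2 hs
  have hb := hyp4 H S
  have hSS : (crd h h1 h2).S = Sh Gr := crd_S h h1 h2
  have hUU := TXAct.UG_eq hb h0 hl
  have hU0 : UG (imS H S) ≤ (crd h h1 h2).S := by
    rw [hSS]
    exact TXAct.UG_le_Sh hb h0 hl Gr
  have hc : ∀ s ∈ (crd h h1 h2).S, s * H.tX = H.tX * s → s ∈ UG (imS H S) := by
    intro s hs1 hs2
    rw [hUU]
    exact mem_UU_of_comm h h1 h2 hs1 hs2
  have htt : H.tX * H.tX = 1 := H.tX_sq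
  refine
    { S2 := hX.two_S
      T2 := hs.two
      t_sq := htt
      t_mem := hs.t_mem
      T_t := hs.comm
      syl := fun Q hQ hQc => ?_
      T_S := fun x hx s hs' => hX.conj_S' (mem_sup_right hx) hs'
      cent := fun s hs1 hst => hs.U (hc s hs1 hst)
      cyc := ?_
      lift := fun f hf => ?_
      A_norm := fun y hy a ha => hs.amb.nor y hy a ha
      U_A := fun s hs1 hsT => UG_le _ (hc s hs1 (hs.comm s hsT))
      A_T := fun a ha haT => ?_ }
  · obtain ⟨n, hn, h⟩ := H.syl_im.exists_conj hQ (fun x hx => by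
      rw [mem_centralizer_singleton_iff]; exact hQc x hx)
    rw [mem_centralizer_singleton_iff] at hn
    exact ⟨n, hn, h⟩
  · obtain ⟨f0, hf0, h⟩ := hs.cyc
    refine ⟨f0, hf0, fun x hx => ?_⟩
    obtain ⟨n, u, hu, h2⟩ := h x hx
    exact ⟨n, u, hU0 hu, hs.U hu, h2⟩
  · obtain ⟨u, hu, h⟩ := hs.lift hf
    refine ⟨u, hU0 hu, hs.U hu, fun n hn => h n ?_⟩
    have huf : u * f ∈ im A t T := mul_mem (hs.U hu) hf
    rcases hn with hn | hn
    · exact Or.inl (hc _ hn (hs.comm _ (pow_mem huf n)))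
    · exact Or.inr (hc _ hn (hs.comm _ (mul_mem hs.t_mem (pow_mem huf n))))
  · have h := hs.inf_A (by exact hb.hD)
    have h2 : a ∈ im A t T ⊓ im A t A := ⟨haT, ha⟩
    rw [h] at h2
    exact hU0 h2

include S h0 hl h h1 h2 in
/-- **The closing of type `U₄(q)`, field case.** -/
theorem close4 (C : Conf L A t) (had : Adapted N S T) (hU : UG S ≤ T) (hF : 4 < Nat.card F) :
    ∃ Y : Subgroup G, IsSyl Y L ∧ t ∉ L ∧ Y ≤ NO A t ∧ im A t Y = Sh Gr ∧ Nonempty (Y ≃* Sh Gr) := by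
  have := C.normal
  have hs := tsit H had hU
  have hSS : (crd h h1 h2).S = Sh Gr := crd_S h h1 h2
  obtain ⟨Y, hY, htL, hYN, him, ⟨e⟩⟩ := main4 H C hF (crd h h1 h2) rfl (hypX H S h0 hl Gr h h1 h2 hs)
    (endB4 H S h0 hl Gr h h1 h2 had hU) (by rw [hSS]; exact sh_le_im H S h0 hl Gr h C.le)
  exact ⟨Y, hY, htL, hYN, by rw [him, hSS], ⟨e.trans (MulEquiv.subgroupCongr hSS)⟩⟩

end inst

/-! ### The conclusion -/

section concl

theorem not_rank {F : Type*} [Field F] [Finite F] [CharP F 2] {B : Bar F} {X : Type*} [Group X] (C : Crd B X)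
    (hF : 4 < Nat.card F) {L : Type*} [Group L] (i : C.S →* L) (hi : Function.Injective i) :
    ¬ Cfsg.PRankLE 2 2 L := by
  intro h
  have h1 := h ((C.W.subgroupOf C.S).map i) ⟨⟨?_⟩⟩ ?_
  · rw [Nat.card_congr ((C.W.subgroupOf C.S).equivMapOfInjective i hi).toEquiv.symm,
      Nat.card_congr (subgroupOfEquivOfLe C.W_le).toEquiv, C.card_W] at h1
    have h2 : 4 ^ 4 ≤ Nat.card F ^ 4 := Nat.pow_le_pow_left hF.le 4
    omega
  · rintro ⟨_, x, hx, rfl⟩ ⟨_, y, hy, rfl⟩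
    apply Subtype.ext
    show i x * i y = i y * i x
    rw [← map_mul, ← map_mul]
    exact congrArg i (Subtype.ext (C.W_comm hx hy))
  · rintro _ ⟨x, hx, rfl⟩
    have h2 : x * x = 1 := Subtype.ext (C.W_sq hx)
    rw [pow_two, ← map_mul, h2, map_one]

open Cfsg.Agent.StdSpFour.CaseBSplit Cfsg.Agent.StdEven.Red

variable {F : Type} [Field F] [Fintype F] [CharP F 2] {B : Bar F} {G : Type u} [Group G] [Finite G]
variable {L A : Subgroup G} {t : G} {T : Subgroup G} (H : Cfsg.Agent.StdEven.CoreQuot.Hyp A t T)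
  (S : Std (stdU0 F B.s B.invol) ↥A)
variable {N : FData (stdU0 F B.s B.invol)} {lam : B.K} (h0 : lam ≠ 0) (hl : lam ≠ 1)
variable (Gr : UFour.Grown (env4 H S h0 hl)) {d : B.K} {pa pc : F → XQ A t} {pb pz : B.K → XQ A t}
  (h : Lab Gr d pa pc pb pz) {ε : F} (h1 : ε + B.s ε = 1) (h2 : ε * B.s ε = (d : F))

include S h0 hl h h1 h2 in
/-- **S1769 gives the conclusion.** -/
theorem concl4 (C : Conf L A t) (had : Adapted N S T) (hU : UG S ≤ T) (hF : 4 < Nat.card F)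
    (h1769 : LinSylow.{u, 0} ↥L) : Concl L t := by
  obtain ⟨Y, hY, htL, -, -, ⟨e⟩⟩ := close4 H S h0 hl Gr h h1 h2 C had hU hF
  refine ⟨Or.inl (Or.inl ?_), htL⟩
  obtain ⟨r, hr0, hr⟩ := FiniteField.card F 2
  have hr2 : 2 ≤ (r : ℕ) := by
    by_contra hc
    have hr1 : (r : ℕ) ≤ 1 := by omega
    rw [Nat.card_eq_fintype_card, hr] at hF
    have : 2 ^ (r : ℕ) ≤ 2 ^ 1 := Nat.pow_le_pow_right (by norm_num) hr1
    omega
  -- the Sylow subgroup of `L`
  have h3 : IsPGroup 2 (Y.subgroupOf L) := hY.two.comap_subtype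
  let S : Sylow 2 ↥L :=
    { toSubgroup := Y.subgroupOf L
      isPGroup' := h3
      is_maximal' := by
        intro Q hQ hle
        have h3 : Q.map L.subtype = Y := by
          apply hY.max _ (hQ.map _)
          · rintro _ ⟨q, -, rfl⟩
            exact q.2
          · intro y hy
            exact ⟨⟨y, hY.le hy⟩, hle (show (⟨y, hY.le hy⟩ : ↥L) ∈ Y.subgroupOf L from hy), rfl⟩
        ext q
        rw [mem_subgroupOf]
        constructor
        · intro hq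
          rw [← h3]
          exact ⟨q, hq, rfl⟩
        · intro hq
          exact hle (show q ∈ Y.subgroupOf L from hq) }
  have eS : ↥(S : Subgroup ↥L) ≃* Sh Gr := (subgroupOfEquivOfLe hY.le).trans e
  have P : Sylow 2 (Matrix.ProjectiveSpecialLinearGroup (Fin 4) F) := default
  obtain ⟨e'⟩ := h.field_equiv_sylow h1 h2 P
  have eC : (crd h h1 h2).S ≃* Sh Gr := MulEquiv.subgroupCongr (crd_S h h1 h2)
  exact ⟨F, inferInstance, inferInstance, inferInstance, 4, by norm_num, by norm_num,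
    h1769 (not_rank (crd h h1 h2) hF ((S : Subgroup ↥L).subtype.comp ((eC.trans eS.symm).toMonoidHom)) (by
      intro a b hab
      exact (eC.trans eS.symm).injective (Subtype.ext hab))) F r hr2 hr 4 (by norm_num) S P ⟨eS.trans e'⟩⟩

end concl

end Cfsg.Agent.StdRank2.UFourEnd.Field
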