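import Cfsg.Agent.StdRank2.UFourEnd.Rank

/-!
# The closing of type `U₄(q)` in the field case: involutions of `S h`, centralisers in `P`

`h` acts through `B.s` (with or without the graph automorphism): `good`: the involutions of `S h` are conjugate to `h` under
`S`; `card_cent`: `|C_S(h)| = |F| ^ 3`; `card_cent_P`: `|C_P(h)| = |F| ^ 3 |H|`.
-/

set_option autoImplicit false
set_option linter.unusedSectionVars false

namespace Cfsg.Agent.StdRank2.UFourEnd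

open Subgroup Cfsg.Agent.StdRank2.UFour Cfsg.Agent.StdEven.Syl

variable {F : Type*} [Field F] [CharP F 2] {B : Bar F} {G : Type*} [Group G]

theorem solve_one (B : Bar F) {m : F} (h : B.s m = m) : ∃ m', m' + B.s m' = m := by
  obtain ⟨x, hx⟩ := B.tr_surj ⟨m, h⟩
  exact ⟨x, congrArg Subtype.val hx⟩

theorem solve_pair (B : Bar F) (x : Bool) {a b : F} (h1 : (bif x then B.s b else B.s a) = a)
    (h2 : (bif x then B.s a else B.s b) = b) :
    ∃ a' b', a' + (bif x then B.s b' else B.s a') = a ∧ b' + (bif x then B.s a' else B.s b') = b := by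
  cases x
  · simp only [cond_false] at *
    obtain ⟨a', ha⟩ := solve_one B h1
    obtain ⟨b', hb⟩ := solve_one B h2
    exact ⟨a', b', ha, hb⟩
  · simp only [cond_true] at *
    exact ⟨a, 0, by rw [map_zero, add_zero], by rw [zero_add, h2]⟩

namespace Crd

variable (C : Crd B G) {x : Bool} {h : G}

/-- **Involutions of `S h` are conjugate to `h`.** -/
theorem good (hac : C.Ac B.s x h) (hh : h * h = 1) {s : G} (hs : s ∈ C.S) (hsh : s * h * (s * h) = 1) :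
    ∃ g ∈ C.S, g * h * g⁻¹ = s * h := by
  have hhi : h⁻¹ = h := inv_eq_of_mul_eq_one_right hh
  obtain ⟨m, c, d, z, a, b, rfl⟩ := hs
  have h1 : C.w m c d z * C.p a b * (h * (C.w m c d z * C.p a b) * h⁻¹) = 1 := by
    rw [← hsh, hhi]; group
  rw [hac.conj_nf, C.nf_mul] at h1
  obtain ⟨-, -, -, -, e5, e6⟩ := C.nf_eq_one h1
  obtain ⟨a', b', ha, hb⟩ := solve_pair B x (eq_of_add e5).symm (eq_of_add e6).symm
  have h2 : C.p a' b' * h * (C.p a' b')⁻¹ = C.p a b * h := by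
    rw [C.p_inv, mul_assoc, hac.p, ← mul_assoc, C.p_mul, ha, hb]
  have h3 : C.w m c d z * C.p a b * h = C.w m c d z * (C.p a' b' * h * (C.p a' b')⁻¹) := by
    rw [h2]; group
  obtain ⟨m1, c1, d1, z1, hv⟩ := C.conj_W (C.p_mem_S a' b') (C.w_mem m c d z)
  have h4 : C.w m c d z * C.p a b * h = C.p a' b' * (C.w m1 c1 d1 z1 * h) * (C.p a' b')⁻¹ := by
    rw [h3, ← hv]
    have := C.p_sq a' b'
    have e : C.p a' b' * (C.p a' b' * C.w m c d z * (C.p a' b')⁻¹ * h) * (C.p a' b')⁻¹ =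
        (C.p a' b' * C.p a' b') * C.w m c d z * (C.p a' b')⁻¹ * h * (C.p a' b')⁻¹ := by group
    rw [e, this, one_mul, C.p_inv]
    group
  have h5 : C.w m1 c1 d1 z1 * h * (C.w m1 c1 d1 z1 * h) = 1 := by
    rw [h4] at hsh
    have e : C.p a' b' * (C.w m1 c1 d1 z1 * h * (C.w m1 c1 d1 z1 * h)) * (C.p a' b')⁻¹ = 1 := by
      rw [← hsh]; group
    rwa [mul_inv_eq_one, mul_eq_left] at e
  have h6 : C.w m1 c1 d1 z1 * (h * C.w m1 c1 d1 z1 * h⁻¹) = 1 := by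
    rw [← h5, hhi]; group
  rw [hac.conj_w, C.w_mul] at h6
  obtain ⟨f1, f2, f3, f4⟩ := C.w_inj _ _ _ _ h6
  obtain ⟨m', hm⟩ := solve_one B (eq_of_add f1).symm
  obtain ⟨z', hz⟩ := solve_one B (eq_of_add f4).symm
  obtain ⟨c', d', hc, hd⟩ := solve_pair B x (eq_of_add f2).symm (eq_of_add f3).symm
  have h7 : C.w m' c' d' z' * h * (C.w m' c' d' z')⁻¹ = C.w m1 c1 d1 z1 * h := by
    rw [C.w_inv, mul_assoc, hac.w, ← mul_assoc, C.w_mul, hm, hc, hd, hz]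
  refine ⟨C.p a' b' * C.w m' c' d' z', mul_mem (C.p_mem_S _ _) (C.w_mem_S _ _ _ _), ?_⟩
  rw [h4, ← h7]
  group

theorem comm_nf (hac : C.Ac B.s x h) {m c d z a b : F} :
    h * (C.w m c d z * C.p a b) = C.w m c d z * C.p a b * h ↔ B.s m = m ∧ B.s z = z ∧
      ((bif x then B.s d else B.s c) = c ∧ (bif x then B.s c else B.s d) = d) ∧
      ((bif x then B.s b else B.s a) = a ∧ (bif x then B.s a else B.s b) = b) := by
  have e : h * (C.w m c d z * C.p a b) = C.w m c d z * C.p a b * h ↔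
      h * (C.w m c d z * C.p a b) * h⁻¹ = C.w m c d z * C.p a b := mul_inv_eq_iff_eq_mul.symm
  rw [e, hac.conj_nf]
  constructor
  · intro h1
    obtain ⟨h1, h2, h3, h4, h5, h6⟩ := C.nf_inj h1
    exact ⟨h1, h4, ⟨h2, h3⟩, h5, h6⟩
  · rintro ⟨h1, h2, ⟨h3, h4⟩, h5, h6⟩
    rw [h1, h2, h3, h4, h5, h6]

theorem card_pair [Finite F] (B : Bar F) (x : Bool) :
    Nat.card {y : F × F // (bif x then B.s y.2 else B.s y.1) = y.1 ∧ (bif x then B.s y.1 else B.s y.2) = y.2} =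
      Nat.card F := by
  cases x
  · rw [← Bar.card_K B, ← Nat.card_prod]
    refine Nat.card_congr
      { toFun := fun y => (⟨y.1.1, y.2.1⟩, ⟨y.1.2, y.2.2⟩)
        invFun := fun y => ⟨(y.1.1, y.2.1), ⟨y.1.2, y.2.2⟩⟩
        left_inv := fun y => rfl
        right_inv := fun y => rfl }
  · refine Nat.card_congr
      { toFun := fun y => y.1.1
        invFun := fun y => ⟨(y, B.s y), B.invol y, rfl⟩
        left_inv := fun y => Subtype.ext (Prod.ext rfl y.2.2)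
        right_inv := fun y => rfl }

/-- **`|C_S(h)| = |F| ^ 3`.** -/
theorem card_cent [Finite F] (hac : C.Ac B.s x h) :
    Nat.card (C.S ⊓ centralizer ({h} : Set G) : Subgroup G) = Nat.card F ^ 3 := by
  have e : ({y : F // B.s y = y} × {y : F // B.s y = y} ×
      {y : F × F // (bif x then B.s y.2 else B.s y.1) = y.1 ∧ (bif x then B.s y.1 else B.s y.2) = y.2} ×
      {y : F × F // (bif x then B.s y.2 else B.s y.1) = y.1 ∧ (bif x then B.s y.1 else B.s y.2) = y.2}) ≃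
      (C.S ⊓ centralizer ({h} : Set G) : Subgroup G) := Equiv.ofBijective
    (fun y => ⟨C.w y.1 y.2.2.1.1.1 y.2.2.1.1.2 y.2.1 * C.p y.2.2.2.1.1 y.2.2.2.1.2, mem_inf.2
      ⟨⟨_, _, _, _, _, _, rfl⟩, mem_centralizer_singleton_iff.2
        ((C.comm_nf hac).2 ⟨y.1.2, y.2.1.2, y.2.2.1.2, y.2.2.2.2⟩).symm⟩⟩) ⟨by
      rintro ⟨⟨m, hm⟩, ⟨z, hz⟩, ⟨⟨c, d⟩, hc, hd⟩, ⟨⟨a, b⟩, ha, hb⟩⟩ ⟨⟨m', hm'⟩, ⟨z', hz'⟩, ⟨⟨c', d'⟩, hc', hd'⟩, ⟨⟨a', b'⟩, ha', hb'⟩⟩ e
      obtain ⟨h1, h2, h3, h4, h5, h6⟩ := C.nf_inj (congrArg Subtype.val e)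
      simp only at h1 h2 h3 h4 h5 h6
      subst h1 h2 h3 h4 h5 h6
      rfl, by
      rintro ⟨g, hg⟩
      obtain ⟨⟨m, c, d, z, a, b, rfl⟩, hg⟩ := mem_inf.1 hg
      rw [mem_centralizer_singleton_iff] at hg
      obtain ⟨h1, h2, h3, h4⟩ := (C.comm_nf hac).1 hg.symm
      exact ⟨(⟨m, h1⟩, ⟨z, h2⟩, ⟨(c, d), h3⟩, ⟨(a, b), h4⟩), rfl⟩⟩
  rw [← Nat.card_congr e, Nat.card_prod, Nat.card_prod, Nat.card_prod, card_pair, ← mul_assoc, Bar.card_K]
  ring

end Crd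

namespace Hyp

variable [Finite F] [Finite G] {C : Crd B G} {T H : Subgroup G} (h : Hyp C T H)

include h

theorem H_comm {g k : G} (hg : g ∈ H) (hk : k ∈ H) : g * k = k * g := by
  obtain ⟨σ, x, h1⟩ := h.ac g hg
  obtain ⟨τ, y, h2⟩ := h.ac k hk
  refine h.eq_of_ac (mul_mem hg hk) (mul_mem hk hg) (h1.mul h2) ?_
  rw [OutField.comm σ τ, Bool.xor_comm]
  exact h2.mul h1

/-- centralisers in `P` of elements of `H` -/
theorem card_cent_P {y : G} (hy : y ∈ H) {x : Bool} (hac : C.Ac B.s x y) :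
    Nat.card ((C.S ⊔ T) ⊓ centralizer ({y} : Set G) : Subgroup G) = Nat.card F ^ 3 * Nat.card (H) := by
  rw [← C.card_cent hac, ← Nat.card_prod]
  refine (Nat.card_congr (Equiv.ofBijective (fun z : (C.S ⊓ centralizer ({y} : Set G) : Subgroup G) × H =>
    (⟨z.1 * z.2, mem_inf.2 ⟨h.mem_P.2 ⟨z.1, (mem_inf.1 z.1.2).1, z.2, z.2.2, rfl⟩,
      mul_mem (mem_inf.1 z.1.2).2 (mem_centralizer_singleton_iff.2 (h.H_comm z.2.2 hy))⟩⟩ :
        ((C.S ⊔ T) ⊓ centralizer ({y} : Set G) : Subgroup G))) ⟨?_, ?_⟩)).symm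
  · rintro ⟨⟨s, hs⟩, ⟨k, hk⟩⟩ ⟨⟨s', hs'⟩, ⟨k', hk'⟩⟩ e
    obtain ⟨h1, h2⟩ := h.unique_decomp (mem_inf.1 hs).1 (mem_inf.1 hs').1 hk hk' (congrArg Subtype.val e)
    subst h1 h2
    rfl
  · rintro ⟨g, hg⟩
    obtain ⟨hgP, hgy⟩ := mem_inf.1 hg
    obtain ⟨s, hs, k, hk, rfl⟩ := h.mem_P.1 hgP
    rw [mem_centralizer_singleton_iff] at hgy
    have h1 : s * k = (y * s * y⁻¹) * k := by
      have e : y * s * y⁻¹ * k = y * s * (k * y⁻¹) := by
        rw [h.H_comm hk (inv_mem hy)]; group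
      calc s * k = (s * k * y) * y⁻¹ := by group
        _ = y * s * y⁻¹ * k := by rw [hgy, e]; group
    have h2 := mul_right_cancel h1
    refine ⟨(⟨s, mem_inf.2 ⟨hs, mem_centralizer_singleton_iff.2 ?_⟩⟩, ⟨k, hk⟩), rfl⟩
    nth_rewrite 1 [h2]
    group

theorem T_eq : T = (C.S ⊔ T) ⊓ centralizer ({C.t} : Set G) := by
  apply le_antisymm
  · exact fun y hy => mem_inf.2 ⟨mem_sup_right hy, mem_centralizer_singleton_iff.2 (h.TC y hy)⟩
  · intro g hg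
    obtain ⟨hgP, hgt⟩ := mem_inf.1 hg
    obtain ⟨s, hs, k, hk, rfl⟩ := h.mem_P.1 hgP
    rw [mem_centralizer_singleton_iff] at hgt
    have h1 : s * C.t * k = C.t * s * k := by
      rw [mul_assoc, ← h.TC k (h.HT hk), ← mul_assoc, hgt]; group
    exact mul_mem (h.UT s hs (mul_right_cancel h1)) (h.HT hk)

theorem card_T : Nat.card T = Nat.card F ^ 3 * Nat.card (H) := by
  rw [← h.card_cent_P h.tH C.ac_t, ← h.T_eq]

end Hyp

end Cfsg.Agent.StdRank2.UFourEnd
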