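import Cfsg.Agent.StdRank2.UFourEnd.Star
import Cfsg.Agent.StdRank2.UClose.Lift

/-!
# The closing of type `U₄(q)` in the field case: from `X = N_G(O) / O` to `G`

`main4`: from the coordinates in `X` (`Crd`, `Hyp`) and the type independent data (`EndB`): `t ∉ L` and the preimage of `S` is a
Sylow 2-subgroup of `L`.
-/

set_option autoImplicit false
set_option linter.unusedSectionVars false

namespace Cfsg.Agent.StdRank2.UFourEnd

open Cfsg Subgroup Cfsg.Agent.StdRank2.UFour Cfsg.Agent.StdEven.Syl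

variable {F : Type*} [Field F] [CharP F 2] {B : Bar F} {G : Type*} [Group G]

section map

variable {X : Type*} [Group X] (C : Crd B X) (Q : Subgroup X) (ψ : Q →* G) (hψ : Function.Injective ψ)
  (hw : ∀ m c d z, C.w m c d z ∈ Q) (hp : ∀ a b, C.p a b ∈ Q) (ht : C.t ∈ Q)

/-- The image of the coordinates under an injective homomorphism. -/
def Crd.map : Crd B G where
  w m c d z := ψ ⟨C.w m c d z, hw m c d z⟩
  p a b := ψ ⟨C.p a b, hp a b⟩
  t := ψ ⟨C.t, ht⟩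
  w_mul m c d z m' c' d' z' := by
    rw [← map_mul]; exact congrArg ψ (Subtype.ext (C.w_mul _ _ _ _ _ _ _ _))
  p_mul a b a' b' := by
    rw [← map_mul]; exact congrArg ψ (Subtype.ext (C.p_mul _ _ _ _))
  p_w a b m c d z := by
    rw [← map_mul, ← map_mul]; exact congrArg ψ (Subtype.ext (C.p_w _ _ _ _ _ _))
  w_inj m c d z h := by
    rw [← map_one ψ] at h
    exact C.w_inj _ _ _ _ (congrArg Subtype.val (hψ h))
  tt := by
    rw [← map_mul, ← map_one ψ]; exact congrArg ψ (Subtype.ext C.tt)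
  t_w m c d z := by
    rw [← map_mul, ← map_mul]; exact congrArg ψ (Subtype.ext (C.t_w _ _ _ _))
  t_p a b := by
    rw [← map_mul, ← map_mul]; exact congrArg ψ (Subtype.ext (C.t_p _ _))

theorem Crd.S_le_of : (∀ m c d z, C.w m c d z ∈ Q) → (∀ a b, C.p a b ∈ Q) → C.S ≤ Q := by
  rintro h1 h2 _ ⟨m, c, d, z, a, b, rfl⟩
  exact mul_mem (h1 _ _ _ _) (h2 _ _)

theorem Crd.mem_map_S {g : G} : g ∈ (C.map Q ψ hψ hw hp ht).S ↔ ∃ x : Q, (x : X) ∈ C.S ∧ g = ψ x := by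
  constructor
  · rintro ⟨m, c, d, z, a, b, rfl⟩
    refine ⟨⟨C.w m c d z, hw m c d z⟩ * ⟨C.p a b, hp a b⟩, ⟨m, c, d, z, a, b, rfl⟩, ?_⟩
    rw [map_mul]; rfl
  · rintro ⟨x, ⟨m, c, d, z, a, b, hx⟩, rfl⟩
    refine ⟨m, c, d, z, a, b, ?_⟩
    show ψ x = ψ ⟨C.w m c d z, hw m c d z⟩ * ψ ⟨C.p a b, hp a b⟩
    rw [← map_mul]
    exact congrArg ψ (Subtype.ext hx)

theorem Crd.map_ac {σ : F ≃+* F} {sw : Bool} {y : Q} :
    (C.map Q ψ hψ hw hp ht).Ac σ sw (ψ y) ↔ C.Ac σ sw y := by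
  constructor
  · rintro ⟨h1, h2⟩
    refine ⟨fun m c d z => ?_, fun a b => ?_⟩
    · have h3 := h1 m c d z
      change ψ y * ψ ⟨C.w m c d z, hw m c d z⟩ = ψ ⟨C.w _ _ _ _, hw _ _ _ _⟩ * ψ y at h3
      rw [← map_mul, ← map_mul] at h3
      exact congrArg Subtype.val (hψ h3)
    · have h3 := h2 a b
      change ψ y * ψ ⟨C.p a b, hp a b⟩ = ψ ⟨C.p _ _, hp _ _⟩ * ψ y at h3
      rw [← map_mul, ← map_mul] at h3
      exact congrArg Subtype.val (hψ h3)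
  · rintro ⟨h1, h2⟩
    refine ⟨fun m c d z => ?_, fun a b => ?_⟩
    · show ψ y * ψ ⟨C.w m c d z, hw m c d z⟩ = ψ ⟨C.w _ _ _ _, hw _ _ _ _⟩ * ψ y
      rw [← map_mul, ← map_mul]
      exact congrArg ψ (Subtype.ext (h1 m c d z))
    · show ψ y * ψ ⟨C.p a b, hp a b⟩ = ψ ⟨C.p _ _, hp _ _⟩ * ψ y
      rw [← map_mul, ← map_mul]
      exact congrArg ψ (Subtype.ext (h2 a b))

theorem Hyp.map {T H : Subgroup X} (h : Hyp C T H) :
    Hyp (C.map Q ψ hψ hw hp ht) ((T.subgroupOf Q).map ψ) ((H.subgroupOf Q).map ψ) where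
  T2 := h.T2.comap_subtype.map ψ
  tH := ⟨⟨C.t, ht⟩, h.tH, rfl⟩
  HT := Subgroup.map_mono fun _ hx => h.HT hx
  TC := by
    rintro _ ⟨y, hy, rfl⟩
    show ψ y * ψ ⟨C.t, ht⟩ = ψ ⟨C.t, ht⟩ * ψ y
    rw [← map_mul, ← map_mul]
    exact congrArg ψ (Subtype.ext (h.TC _ hy))
  ac := by
    rintro _ ⟨y, hy, rfl⟩
    obtain ⟨σ, x, h1⟩ := h.ac _ hy
    exact ⟨σ, x, (C.map_ac Q ψ hψ hw hp ht).2 h1⟩
  ker := by
    rintro _ ⟨y, hy, rfl⟩ h1
    have h2 := h.ker _ hy ((C.map_ac Q ψ hψ hw hp ht).1 h1)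
    have h3 : y = 1 := Subtype.ext h2
    rw [h3, map_one]
  ad := by
    rintro _ ⟨y, hy, rfl⟩
    obtain ⟨u, huS, huT, hH⟩ := h.ad _ hy
    refine ⟨ψ ⟨u, C.S_le_of Q hw hp huS⟩, (C.mem_map_S Q ψ hψ hw hp ht).2 ⟨_, huS, rfl⟩, ⟨_, huT, rfl⟩, ?_⟩
    rw [← map_mul]
    exact ⟨_, hH, rfl⟩
  UT := by
    intro g hg hgt
    obtain ⟨x, hx, rfl⟩ := (C.mem_map_S Q ψ hψ hw hp ht).1 hg
    refine ⟨x, h.UT _ hx ?_, rfl⟩
    change ψ x * ψ ⟨C.t, ht⟩ = ψ ⟨C.t, ht⟩ * ψ x at hgt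
    rw [← map_mul, ← map_mul] at hgt
    exact congrArg Subtype.val (hψ hgt)

end map

theorem Crd.t_not_mem (C : Crd B G) : C.t ∉ C.S := fun h => by
  have := (C.ac_t.of_mem_S h).2
  simp at this

/-- The end in `G`. -/
theorem end4 [Finite G] [Finite F] {C : Crd B G} {T H A : Subgroup G} (h : Hyp C T H)
    (hb : UClose.EndB C.S T C.t A) (hsyl : IsSyl T (centralizer ({C.t} : Set G))) (hF : 4 < Nat.card F)
    {L : Subgroup G} [L.Normal] (hL : commutator L = ⊤) (hSL : C.S ≤ L) :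
    C.t ∉ L ∧ ∃ P : Sylow 2 G, (P : Subgroup G) = C.S ⊔ T ∧ (P : Subgroup G) ⊓ L = C.S :=
  hb.main C.t_not_mem (fun g hg => h.star hsyl hF hg) hL hSL

section lift

open Cfsg.Agent.SignalizersComponents Cfsg.Agent.StdEven.Loc
open Cfsg.Agent.StdEven.CoreQuot Cfsg.Agent.StdL2.Setup Cfsg.Agent.StdEven.EndLift

variable [Finite G] {L A T : Subgroup G} {t : G} (H : Cfsg.Agent.StdEven.CoreQuot.Hyp A t T)

/-- **The end of the field case, from `X` to `G`.** -/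
theorem main4 (Cf : Conf L A t) [Finite F] (hF : 4 < Nat.card F) (C : Crd B (XQ A t)) (hCt : C.t = H.tX)
    {Hx : Subgroup (XQ A t)} (h : Hyp C (im A t T) Hx) (e : UClose.EndB C.S (im A t T) H.tX (im A t A))
    (hSL : C.S ≤ im A t L) :
    ∃ S : Subgroup G, IsSyl S L ∧ t ∉ L ∧ S ≤ NO A t ∧ im A t S = C.S ∧ Nonempty (S ≃* C.S) := by
  have hTS : T ≤ NO A t := H.T_le
  have hn : im A t T ≤ normalizer (C.S : Set (XQ A t)) := fun x hx => mem_normalizer_of_conj_le (e.T_S x hx)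
  have h2 : IsPGroup 2 (C.S ⊔ im A t T : Subgroup (XQ A t)) := e.S2.to_sup_of_normal_left' e.T2 hn
  obtain ⟨P, hP, hPN, hTP, hPi⟩ := H.exists_lift (Y' := C.S ⊔ im A t T) h2 H.isT.syl.two H.T_le le_sup_right
  have hb := UClose.lift_endB H e hP hPN hTP hPi
  have him := UClose.im_back H e hP hPN hTP hPi
  obtain ⟨Q, hQ, f, hf⟩ : ∃ Q : Subgroup (XQ A t), Q = im A t P ∧
      ∃ f : P ≃* Q, ∀ y : P, ((f y : Q) : XQ A t) = pr A t ⟨y, hPN y.2⟩ := ⟨_, rfl, H.exists_equiv_im hP hPN⟩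
  let ψ : Q →* G := P.subtype.comp f.symm.toMonoidHom
  have hψ : Function.Injective ψ := P.subtype_injective.comp f.symm.injective
  have hSQ : C.S ≤ Q := by rw [hQ, hPi]; exact le_sup_left
  have hTQ : im A t T ≤ Q := by rw [hQ, hPi]; exact le_sup_right
  have hψf : ∀ y : P, ψ (f y) = y := fun y => congrArg Subtype.val (f.symm_apply_apply y)
  have hψ' : ∀ x : Q, ∃ hx : ψ x ∈ P, f ⟨ψ x, hx⟩ = x := fun x => ⟨(f.symm x).2, f.apply_symm_apply x⟩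
  have hw : ∀ m c d z, C.w m c d z ∈ Q := fun m c d z => hSQ (C.w_mem_S _ _ _ _)
  have hp : ∀ a b, C.p a b ∈ Q := fun a b => hSQ (C.p_mem_S _ _)
  have ht : C.t ∈ Q := hTQ (h.HT h.tH)
  have h' := Hyp.map C Q ψ hψ hw hp ht h
  have mapY : ∀ Y' : Subgroup (XQ A t), Y' ≤ Q → (Y'.subgroupOf Q).map ψ = back P Y' := by
    intro Y' hY'
    ext g
    constructor
    · rintro ⟨x, hx, rfl⟩
      obtain ⟨h3, h4⟩ := hψ' x
      refine mem_back.mpr ⟨h3, hPN h3, ?_⟩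
      have h5 := hf ⟨ψ x, h3⟩
      rw [h4] at h5
      rw [← h5]
      exact hx
    · intro hg
      obtain ⟨h3, h4, h5⟩ := mem_back.mp hg
      refine ⟨f ⟨g, h3⟩, ?_, hψf ⟨g, h3⟩⟩
      show ((f ⟨g, h3⟩ : Q) : XQ A t) ∈ Y'
      rw [hf]
      exact h5
  have hS : (C.map Q ψ hψ hw hp ht).S = back P C.S := by
    rw [← mapY _ hSQ]
    ext g
    rw [C.mem_map_S Q ψ hψ hw hp ht]
    constructor
    · rintro ⟨x, hx, rfl⟩; exact ⟨x, hx, rfl⟩
    · rintro ⟨x, hx, rfl⟩; exact ⟨x, hx, rfl⟩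
  have hT : ((im A t T).subgroupOf Q).map ψ = T := by
    rw [mapY _ hTQ]
    ext g
    constructor
    · intro hg
      obtain ⟨h3, h4, h5⟩ := mem_back.mp hg
      obtain ⟨n, hn, hne⟩ := mem_im.mp h5
      have h6 := H.pr_inj hP (x := n) (y := ⟨g, h4⟩) (hTP hn) h3 hne
      have h7 : (n : G) = g := congrArg Subtype.val h6
      rw [← h7]; exact hn
    · intro hg
      exact mem_back.mpr ⟨hTP hg, H.T_le hg, pr_mem_im hg⟩
  have htt : (C.map Q ψ hψ hw hp ht).t = t := by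
    show ψ ⟨C.t, ht⟩ = t
    have h3 : (⟨C.t, ht⟩ : Q) = f ⟨t, hTP H.isT.mem⟩ := by
      apply Subtype.ext
      rw [hf]
      show C.t = _
      rw [hCt, H.tX_eq]
    rw [h3, hψf]
  rw [hT] at h'
  have hSN : back P C.S ≤ NO A t := fun g hg => (mem_back.mp hg).2.choose
  have hSL' : back P C.S ≤ L := by
    intro g hg
    obtain ⟨h1, h2, h3⟩ := mem_back.mp hg
    exact mem_L Cf H h2 (hSL h3)
  have hLn := Cf.normal
  have hsyl := H.isT.syl_cent H.std H.ht H.htA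
  obtain ⟨htL, R, hR, hRL⟩ := end4 (A := A) (L := L) h' (by rw [hS, htt]; exact hb) (by rw [htt]; exact hsyl) hF
    (perfect Cf) (by rw [hS]; exact hSL')
  rw [htt] at htL
  rw [hS] at hR hRL
  obtain ⟨f', hf'⟩ := H.exists_equiv_im hb.S2 hSN
  refine ⟨back P C.S, ?_, htL, hSN, him, ⟨f'.trans (MulEquiv.subgroupCongr him)⟩⟩
  -- `S` is Sylow in `L`
  refine ⟨hSL', hb.S2, fun Y hY hYL hSY => ?_⟩
  obtain ⟨R', hR'⟩ := hY.exists_le_sylow
  have : Fact (Nat.Prime 2) := ⟨Nat.prime_two⟩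
  obtain ⟨g, hg⟩ := MulAction.exists_smul_eq G R' R
  have h3 : Nat.card Y ≤ Nat.card (back P C.S) := by
    rw [Nat.card_congr (Subgroup.equivMapOfInjective Y (MulAut.conj g).toMonoidHom (MulAut.conj g).injective).toEquiv]
    apply Subgroup.card_le_of_le
    rintro _ ⟨y, hy, rfl⟩
    rw [← hRL]
    refine ⟨?_, hLn.conj_mem _ (hYL hy) g⟩
    rw [← hg]
    exact ⟨y, hR' hy, rfl⟩
  exact (Subgroup.eq_of_le_of_card_ge hSY h3).symm

end lift

end Cfsg.Agent.StdRank2.UFourEnd
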