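import Cfsg.Agent.StdRank2.UFourEnd.Core
import Cfsg.Agent.StdRank2.UFourIdField
import Cfsg.Agent.StdRank2.UFourIdWeyl
import Cfsg.Agent.StdRank2.TXAct

/-!
# The coordinates of the grown group of type `U₄(q)` in the field case, and the elements of field type

`crd` : the coordinates (`UFourEnd.Crd`) of `Sh Gr` from `Lab Gr d pa pc pb pz` and `ε + ε̄ = 1`, `ε ε̄ = d`.
`exists_ac` : an element commuting with `t`, `na`, `nb` and acting as a field automorphism on the environment acts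
on `crd` through `Ac`.
-/

set_option autoImplicit false
set_option linter.unusedSectionVars false

namespace Cfsg.Agent.StdRank2.UFourEnd.PureX

open Cfsg.Agent.StdRank2.UFour Cfsg.Agent.StdRank2.UFourId Cfsg.Agent.StdRank2.UFourId.VSec
open Cfsg.Agent.StdRank2.TXNorm

variable {F : Type*} [Field F] [CharP F 2] {B : Bar F} {G : Type*} [Group G] {E : Env B G} {Gr : Grown E}

/-! ### Coordinates -/

/-- The coordinate vector of `w m c d z`. -/
def vec (ε : F) (m c d z : F) : Vh B :=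
  ((B.tr z, B.tr (B.s ε * z)), (c + B.s d, B.s ε * c + ε * B.s d), (B.tr m, B.tr (B.s ε * m)))

theorem vec_add (ε m c d z m' c' d' z' : F) :
    (vec ε (m + m') (c + c') (d + d') (z + z') : Vh B) = vec ε m c d z + vec ε m' c' d' z' := by
  apply Vh_ext
  · simp only [vec, Prod.fst_add, B.tr_add]
  · simp only [vec, Prod.fst_add, Prod.snd_add, mul_add, B.tr_add]
  · simp only [vec, Prod.fst_add, Prod.snd_add, map_add]; ring
  · simp only [vec, Prod.fst_add, Prod.snd_add, map_add]; ring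
  · simp only [vec, Prod.fst_add, Prod.snd_add, B.tr_add]
  · simp only [vec, Prod.snd_add, mul_add, B.tr_add]

section vec

variable {d : B.K} {ε : F} (h1 : ε + B.s ε = 1) (h2 : ε * B.s ε = (d : F))

include h1

theorem tr_inj {x : F} (e1 : B.tr x = 0) (e2 : B.tr (B.s ε * x) = 0) : x = 0 := by
  have e1' : x + B.s x = 0 := congrArg (fun k : B.K => (k : F)) e1
  have e2' : B.s ε * x + B.s (B.s ε * x) = 0 := congrArg (fun k : B.K => (k : F)) e2
  rw [map_mul, B.invol] at e2'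
  grind

theorem tr_surj (x y : B.K) : B.tr (ε * x + y) = x ∧ B.tr (B.s ε * (ε * x + y)) = y := by
  constructor
  · apply Subtype.ext
    simp [map_mul, map_add]
    grind
  · apply Subtype.ext
    simp [map_mul, map_add, B.invol]
    grind

theorem vec_eq_zero {m c c' z : F} (e : (vec ε m c c' z : Vh B) = 0) : m = 0 ∧ c = 0 ∧ c' = 0 ∧ z = 0 := by
  have e1 := congrArg (fun v : Vh B => v.1.1) e
  have e2 := congrArg (fun v : Vh B => v.1.2) e
  have e3 := congrArg (fun v : Vh B => v.2.1.1) e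
  have e4 := congrArg (fun v : Vh B => v.2.1.2) e
  have e5 := congrArg (fun v : Vh B => v.2.2.1) e
  have e6 := congrArg (fun v : Vh B => v.2.2.2) e
  simp only [vec, Prod.fst_zero, Prod.snd_zero] at e1 e2 e3 e4 e5 e6
  have h3 : c = 0 := by grind
  refine ⟨tr_inj h1 e5 e6, h3, ?_, tr_inj h1 e1 e2⟩
  rw [h3, zero_add] at e3
  exact (map_eq_zero_iff B.s B.s.injective).1 e3

theorem exists_vec (v : Vh B) : ∃ m c c' z, v = vec ε m c c' z := by
  refine ⟨ε * v.2.2.1 + v.2.2.2, v.2.1.2 + ε * v.2.1.1, B.s (v.2.1.2 + B.s ε * v.2.1.1), ε * v.1.1 + v.1.2, ?_⟩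
  apply Vh_ext
  · simp only [vec, (tr_surj h1 _ _).1]
  · simp only [vec, (tr_surj h1 _ _).2]
  · simp only [vec, B.invol]; grind
  · simp only [vec, B.invol]; grind
  · simp only [vec, (tr_surj h1 _ _).1]
  · simp only [vec, (tr_surj h1 _ _).2]

theorem tv_vec (m c c' z : F) : tv (vec ε m c c' z : Vh B) = vec ε (B.s m) (B.s c') (B.s c) (B.s z) := by
  apply Vh_ext
  · apply Subtype.ext
    simp [tv, vec, B.invol]
    grind
  · apply Subtype.ext
    simp [tv, vec, map_mul, B.invol]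
    grind
  · simp [tv, vec, B.invol]
    grind
  · simp [tv, vec, B.invol]
    grind
  · apply Subtype.ext
    simp [tv, vec, B.invol]
    grind
  · apply Subtype.ext
    simp [tv, vec, map_mul, B.invol]
    grind

include h2

theorem p_vec (a b m c c' z : F) :
    pv d (a + B.s b) (av (B.s ε * a + ε * B.s b) (vec ε m c c' z : Vh B)) =
      vec ε m (c + a * m) (c' + b * m) (z + a * c' + b * c + a * b * m) := by
  apply Vh_ext
  · apply Subtype.ext
    simp [pv, av, vec, map_mul, map_add, B.invol]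
    grind
  · apply Subtype.ext
    simp [pv, av, vec, map_mul, map_add, B.invol]
    grind
  · simp [pv, av, vec, map_mul, map_add, B.invol]
    grind
  · simp [pv, av, vec, map_mul, map_add, B.invol]
    grind
  · simp [pv, av, vec]
  · simp [pv, av, vec]

end vec

variable {d : B.K} {pa pc : F → G} {pb pz : B.K → G} (h : Lab Gr d pa pc pb pz)
  {ε : F} (h1 : ε + B.s ε = 1) (h2 : ε * B.s ε = (d : F))

/-- **The coordinates of the grown group in the field case.** -/
def crd : Crd B G where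
  w m c c' z := Wh E.toWEnv pc pb pz (vec ε m c c' z)
  p a b := pa (a + B.s b) * E.xa (B.s ε * a + ε * B.s b)
  t := E.t
  w_mul m c c' z m' c₂ c₂' z' := by rw [← h.Wh_add, ← vec_add]
  p_mul a b a' b' := by
    rw [h.a_mul]
    congr 2
    · rw [map_add]; ring
    · rw [map_add]; ring
  p_w a b m c c' z := by
    have h3 := h.act (a + B.s b) (B.s ε * a + ε * B.s b) (vec ε m c c' z)
    rw [p_vec h1 h2] at h3
    unfold Cj at h3
    rw [← h3]
    group
  w_inj m c c' z e := vec_eq_zero h1 (h.Wh_eq_one e)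
  tt := E.t_sq
  t_w m c c' z := by
    have h3 := h.t_Wh (vec ε m c c' z)
    rw [tv_vec h1] at h3
    rw [← h3, mul_assoc, E.t_sq, mul_one]
  t_p a b := by
    have h3 := root_t Gr.rootA (h.a.mem (a + B.s b)) (h.a.conj_t (a + B.s b))
    have h4 : E.t * pa (a + B.s b) = E.xa (a + B.s b) * pa (a + B.s b) * E.t := by
      rw [← h3, mul_assoc, E.t_sq, mul_one]
    have h5 : E.xa (a + B.s b) * pa (a + B.s b) = pa (a + B.s b) * E.xa (a + B.s b) :=
      root_comm Gr.rootA (Gr.rootA.mem _) (h.a.mem _)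
    have h6 : a + B.s b = B.s b + B.s (B.s a) := by rw [B.invol]; ring
    have h7 : a + B.s b + (B.s ε * a + ε * B.s b) = B.s ε * B.s b + ε * B.s (B.s a) := by
      rw [B.invol]; grind
    calc E.t * (pa (a + B.s b) * E.xa (B.s ε * a + ε * B.s b))
        = (E.t * pa (a + B.s b)) * E.xa (B.s ε * a + ε * B.s b) := by group
      _ = pa (a + B.s b) * E.xa (a + B.s b) * (E.t * E.xa (B.s ε * a + ε * B.s b)) := by rw [h4, h5]; group
      _ = pa (a + B.s b) * (E.xa (a + B.s b) * E.xa (B.s ε * a + ε * B.s b)) * E.t := by rw [E.t_a]; group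
      _ = _ := by rw [← E.xa_add, h7, ← h6]

theorem crd_t : (crd h h1 h2).t = E.t := rfl

theorem crd_S : (crd h h1 h2).S = Sh Gr := by
  ext g
  rw [Crd.mem_S, h.mem_Sh]
  constructor
  · rintro ⟨m, c, c', z, a, b, rfl⟩
    exact ⟨_, _, _, rfl⟩
  · rintro ⟨v, s, s', rfl⟩
    obtain ⟨m, c, c', z, rfl⟩ := exists_vec h1 v
    refine ⟨m, c, c', z, s' + ε * s, B.s (s' + B.s ε * s), ?_⟩
    show _ = _ * (pa (s' + ε * s + B.s (B.s (s' + B.s ε * s))) *
      E.xa (B.s ε * (s' + ε * s) + ε * B.s (B.s (s' + B.s ε * s))))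
    rw [B.invol]
    have e1 : s' + ε * s + (s' + B.s ε * s) = s := by grind
    have e2 : B.s ε * (s' + ε * s) + ε * (s' + B.s ε * s) = s' := by grind
    rw [e1, e2]
    rfl

/-! ### Elements of field type -/

section act

variable {f : G} {ρ : F ≃+* F}

/-- the restriction of `ρ` to the fixed field -/
def rK (hs : ∀ x, ρ (B.s x) = B.s (ρ x)) : B.K ≃+* B.K where
  toFun k := ⟨ρ k, by
    change B.s (ρ k) = ρ k
    rw [← hs, B.s_K]⟩
  invFun k := ⟨ρ.symm k, by
    change B.s (ρ.symm k) = ρ.symm k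
    apply ρ.injective
    rw [hs, ρ.apply_symm_apply, B.s_K]⟩
  left_inv k := Subtype.ext (ρ.symm_apply_apply _)
  right_inv k := Subtype.ext (ρ.apply_symm_apply _)
  map_mul' a b := Subtype.ext (map_mul ρ _ _)
  map_add' a b := Subtype.ext (map_add ρ _ _)

theorem rK_val (hs : ∀ x, ρ (B.s x) = B.s (ρ x)) (k : B.K) : ((rK hs k : B.K) : F) = ρ k := rfl

variable (hf : FAct E.toWEnv f ρ) (hnb : f * E.nb = E.nb * f)

include hf in
theorem hT (g : G) : g ∈ E.T ↔ f * g * f⁻¹ ∈ E.T :=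
  ⟨hf.T g, fun h => by
    have h3 := hf.T' _ h
    have e : f⁻¹ * (f * g * f⁻¹) * f = g := by group
    rwa [e] at h3⟩

include h hf in
/-- **The action on the sections.** -/
theorem exists_kappa (hA : ∀ g ∈ Gr.A, f * g * f⁻¹ ∈ Gr.A) : ∃ δ : B.K,
    (∀ v : Vh B, Cj E.toWEnv pc pb pz f v ((rK hf.s v.1.1, rK hf.s v.1.2 + δ * rK hf.s v.1.1),
      (ρ v.2.1.1, ρ v.2.1.2 + δ * ρ v.2.1.1), (rK hf.s v.2.2.1, rK hf.s v.2.2.2 + δ * rK hf.s v.2.2.1))) ∧
    (∀ r, f * pa r * f⁻¹ = pa (ρ r) * E.xa (δ * ρ r)) ∧ δ * δ + δ = d + rK hf.s d := by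
  have hT := hT hf
  have ht : E.t * f = f * E.t := hf.t.symm
  let τ := (rK hf.s).symm
  have hτ : ∀ k, rK hf.s (τ k) = k := fun k => (rK hf.s).apply_symm_apply k
  have hτ' : ∀ k, τ (rK hf.s k) = k := fun k => (rK hf.s).symm_apply_apply k
  -- the four sections
  have sz := Sec.conj (τ := τ) Gr.rootZ h.z (n := f) (fun g hg => hf.Z Gr.toWGrown hg)
    (fun c => hf.z _ _ (congrArg (fun k : B.K => (k : F)) (hτ c).symm)) hT ht
  have sb := Sec.conj (τ := τ) Gr.rootB h.b (n := f) (fun g hg => hf.Bb Gr.toWGrown hg)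
    (fun c => hf.b _ _ (congrArg (fun k : B.K => (k : F)) (hτ c).symm)) hT ht
  have sc := Sec.conj (τ := ρ.symm) Gr.rootC h.c (n := f) (fun g hg => hf.C Gr.toWGrown hg)
    (fun c => by rw [hf.c, ρ.apply_symm_apply]) hT ht
  have sa := Sec.conj (τ := ρ.symm) Gr.rootA h.a (n := f) hA
    (fun c => by rw [hf.a, ρ.apply_symm_apply]) hT ht
  obtain ⟨kz, hz⟩ := Sec.diff h.z sz (fun _ _ e => xz_inj E e) E.xz_zero E.t_z
    (fun μ => ⟨E.h 1 μ, E.h_mem _ _, fun c => by rw [E.h_z, Units.val_one, B.nm_one, one_mul]⟩)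
  obtain ⟨kb, hb⟩ := Sec.diff h.b sb (fun _ _ e => xb_inj E e) E.xb_zero E.t_b
    (fun μ => ⟨E.h 1 μ, E.h_mem _ _, fun c => E.h_b 1 μ c⟩)
  obtain ⟨kc, hc⟩ := Sec.diff h.c sc (fun _ _ e => xc_inj E e) E.xc_zero E.t_c
    (fun μ => ⟨E.h μ 1, E.h_mem _ _, fun c => by rw [E.h_c, Units.val_one, OneMemClass.coe_one, mul_one]⟩)
  obtain ⟨ka, ha⟩ := Sec.diff h.a sa (fun _ _ e => xa_inj E e) E.xa_zero E.t_a
    (fun μ => ⟨E.h μ 1, E.h_mem _ _, fun c => E.h_a _ _ _⟩)
  have hz' : ∀ r, f * pz r * f⁻¹ = pz (rK hf.s r) * E.xz (kz * rK hf.s r) := fun r => by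
    have := hz (rK hf.s r)
    rwa [hτ'] at this
  have hb' : ∀ r, f * pb r * f⁻¹ = pb (rK hf.s r) * E.xb (kb * rK hf.s r) := fun r => by
    have := hb (rK hf.s r)
    rwa [hτ'] at this
  have hc' : ∀ r, f * pc r * f⁻¹ = pc (ρ r) * E.xc (kc * ρ r) := fun r => by
    have := hc (ρ r)
    rwa [ρ.symm_apply_apply] at this
  have ha' : ∀ r, f * pa r * f⁻¹ = pa (ρ r) * E.xa (ka * ρ r) := fun r => by
    have := ha (ρ r)
    rwa [ρ.symm_apply_apply] at this
  have hN : ∀ v : Vh B, Cj E.toWEnv pc pb pz f v ((rK hf.s v.1.1, rK hf.s v.1.2 + kz * rK hf.s v.1.1),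
      (ρ v.2.1.1, ρ v.2.1.2 + kc * ρ v.2.1.1), (rK hf.s v.2.2.1, rK hf.s v.2.2.2 + kb * rK hf.s v.2.2.1)) := by
    intro v
    have e1 : Cj E.toWEnv pc pb pz f (zv v.1.1 v.1.2) (zv (rK hf.s v.1.1) (rK hf.s v.1.2 + kz * rK hf.s v.1.1)) := by
      unfold Cj
      rw [h.Wh_z, h.Wh_z, add_comm (rK hf.s v.1.2), E.xz_add, ← mul_assoc (pz _), ← hz',
        ← hf.z v.1.2 (rK hf.s v.1.2) rfl]
      group
    have e2 : Cj E.toWEnv pc pb pz f (cv v.2.1.1 v.2.1.2) (cv (ρ v.2.1.1) (ρ v.2.1.2 + kc * ρ v.2.1.1)) := by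
      unfold Cj
      rw [h.Wh_c, h.Wh_c, add_comm (ρ v.2.1.2), E.xc_add, ← mul_assoc (pc _), ← hc', ← hf.c]
      group
    have e3 : Cj E.toWEnv pc pb pz f (bv v.2.2.1 v.2.2.2)
        (bv (rK hf.s v.2.2.1) (rK hf.s v.2.2.2 + kb * rK hf.s v.2.2.1)) := by
      unfold Cj
      rw [h.Wh_b, h.Wh_b, add_comm (rK hf.s v.2.2.2), E.xb_add, ← mul_assoc (pb _), ← hb',
        ← hf.b v.2.2.2 (rK hf.s v.2.2.2) rfl]
      group
    have e4 := Cj.add h.toVSec (Cj.add h.toVSec e1 e2) e3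
    convert e4 using 1
    · apply Vh_ext <;> simp [zv, cv, bv]
    · apply Vh_ext <;> simp [zv, cv, bv]
  -- `xa 1` on `bv 1 0`
  have r1 := Cj.mul (h.xact 1 (bv 1 0)) (hN _)
  have r2 := Cj.mul (hN (bv 1 0)) (h.xact 1 _)
  have e5 : f * E.xa 1 = E.xa 1 * f := by
    have := hf.a 1
    rw [map_one] at this
    exact mul_inv_eq_iff_eq_mul.1 this
  rw [e5] at r1
  have r3 := Cj.unique h.toVSec r1 r2
  have q1 := congrArg (fun v : Vh B => v.1.2) r3
  have q2 := congrArg (fun v : Vh B => v.2.1.2) r3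
  simp [av, bv, B.tr_zero, B.nm_one] at q1 q2
  -- `pa 1` on `bv 0 1`
  have r4 := Cj.mul (h.pact 1 (bv 0 1)) (hN _)
  have r5 := Cj.mul (hN (bv 0 1)) (h.act 1 ka _)
  have e6 : f * pa 1 = pa 1 * E.xa ka * f := by
    have := ha' 1
    rw [map_one, mul_one] at this
    exact mul_inv_eq_iff_eq_mul.1 this
  rw [e6] at r4
  have r6 := Cj.unique h.toVSec r4 r5
  have q3 := congrArg (fun v : Vh B => v.1.1) r6
  have q4 := congrArg (fun v : Vh B => v.1.2) r6
  have q5 := congrArg (fun v : Vh B => v.2.1.2) r6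
  simp [av, pv, bv, B.tr_zero, B.nm_one] at q3 q4 q5
  subst q1 q2 q5
  refine ⟨kz, hN, ha', ?_⟩
  have e7 : B.nm (kz : F) = kz * kz := by
    apply Subtype.ext
    simp
  rw [e7] at q4
  have e8 := B.K_add_self kz
  have e9 := B.K_add_self d
  linear_combination -q4 + e8 - e9

section case

variable {δ : B.K} (hδ : δ * δ + δ = d + rK hf.s d)

include h1 h2 hδ in
theorem delta_cases : (δ : F) = ε + ρ ε ∨ (δ : F) = ε + ρ ε + 1 := by
  have e1 : (δ : F) * δ + δ = d + ρ d := congrArg (fun k : B.K => (k : F)) hδ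
  rw [← h2, map_mul, hf.s] at e1
  have e2 : B.s (ρ ε) = 1 + ρ ε := by
    have := congrArg ρ h1
    rw [map_add, hf.s, map_one] at this
    grind
  rw [e2] at e1
  have e3 : (δ + (ε + ρ ε)) * (δ + (ε + ρ ε + 1)) = 0 := by grind
  rcases mul_eq_zero.1 e3 with e4 | e4
  · left; exact Crd.eq_of_add e4
  · right; exact Crd.eq_of_add e4

include h1 in
theorem act_one (e : (δ : F) = ε + ρ ε) (m c c' z : F) :
    ((rK hf.s (vec ε m c c' z : Vh B).1.1, rK hf.s (vec ε m c c' z : Vh B).1.2 + δ * rK hf.s (vec ε m c c' z : Vh B).1.1),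
      (ρ (vec ε m c c' z : Vh B).2.1.1, ρ (vec ε m c c' z : Vh B).2.1.2 + δ * ρ (vec ε m c c' z : Vh B).2.1.1),
      (rK hf.s (vec ε m c c' z : Vh B).2.2.1, rK hf.s (vec ε m c c' z : Vh B).2.2.2 + δ * rK hf.s (vec ε m c c' z : Vh B).2.2.1)) =
      (vec ε (ρ m) (ρ c) (ρ c') (ρ z) : Vh B) := by
  have e2 : B.s (ρ ε) = 1 + ρ ε := by
    have := congrArg ρ h1
    rw [map_add, hf.s, map_one] at this
    grind
  apply Vh_ext
  · apply Subtype.ext
    simp [vec, rK_val, map_add, map_mul, B.invol, hf.s, e, e2]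
  · apply Subtype.ext
    simp [vec, rK_val, map_add, map_mul, B.invol, hf.s, e, e2]
    grind
  · simp [vec, rK_val, map_add, map_mul, B.invol, hf.s, e, e2]
  · simp [vec, rK_val, map_add, map_mul, B.invol, hf.s, e, e2]
    grind
  · apply Subtype.ext
    simp [vec, rK_val, map_add, map_mul, B.invol, hf.s, e, e2]
  · apply Subtype.ext
    simp [vec, rK_val, map_add, map_mul, B.invol, hf.s, e, e2]
    grind

include h1 in
theorem act_two (e : (δ : F) = ε + ρ ε + 1) (m c c' z : F) :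
    ((rK hf.s (vec ε m c c' z : Vh B).1.1, rK hf.s (vec ε m c c' z : Vh B).1.2 + δ * rK hf.s (vec ε m c c' z : Vh B).1.1),
      (ρ (vec ε m c c' z : Vh B).2.1.1, ρ (vec ε m c c' z : Vh B).2.1.2 + δ * ρ (vec ε m c c' z : Vh B).2.1.1),
      (rK hf.s (vec ε m c c' z : Vh B).2.2.1, rK hf.s (vec ε m c c' z : Vh B).2.2.2 + δ * rK hf.s (vec ε m c c' z : Vh B).2.2.1)) =
      (vec ε (B.s (ρ m)) (B.s (ρ c')) (B.s (ρ c)) (B.s (ρ z)) : Vh B) := by
  have e2 : B.s (ρ ε) = 1 + ρ ε := by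
    have := congrArg ρ h1
    rw [map_add, hf.s, map_one] at this
    grind
  apply Vh_ext
  · apply Subtype.ext
    simp [vec, rK_val, map_add, map_mul, B.invol, hf.s, e, e2]
    grind
  · apply Subtype.ext
    simp [vec, rK_val, map_add, map_mul, B.invol, hf.s, e, e2]
    grind
  · simp [vec, rK_val, map_add, map_mul, B.invol, hf.s, e, e2]
    grind
  · simp [vec, rK_val, map_add, map_mul, B.invol, hf.s, e, e2]
    grind
  · apply Subtype.ext
    simp [vec, rK_val, map_add, map_mul, B.invol, hf.s, e, e2]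
    grind
  · apply Subtype.ext
    simp [vec, rK_val, map_add, map_mul, B.invol, hf.s, e, e2]
    grind

end case

include hf in
/-- **Elements of field type act on the coordinates as (graph-)field automorphisms.** -/
theorem exists_ac (hA : ∀ g ∈ Gr.A, f * g * f⁻¹ ∈ Gr.A) :
    (crd h h1 h2).Ac ρ false f ∨ (crd h h1 h2).Ac (B.s * ρ) true f := by
  obtain ⟨δ, hN, ha, hδ⟩ := exists_kappa h hf hA
  have e2 : B.s (ρ ε) = 1 + ρ ε := by
    have := congrArg ρ h1
    rw [map_add, hf.s, map_one] at this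
    grind
  have hp : ∀ r r', f * (pa r * E.xa r') * f⁻¹ = pa (ρ r) * E.xa (δ * ρ r + ρ r') := by
    intro r r'
    have e3 := ha r
    have e4 := hf.a r'
    calc f * (pa r * E.xa r') * f⁻¹ = (f * pa r * f⁻¹) * (f * E.xa r' * f⁻¹) := by group
      _ = _ := by rw [e3, e4, E.xa_add, mul_assoc]
  rcases delta_cases h1 h2 hf hδ with e | e
  · left
    constructor
    · intro m c c' z
      have h3 := hN (vec ε m c c' z)
      rw [act_one h1 hf e] at h3
      exact mul_inv_eq_iff_eq_mul.1 h3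
    · intro a b
      show f * (pa (a + B.s b) * E.xa (B.s ε * a + ε * B.s b)) =
        (pa (ρ a + B.s (ρ b)) * E.xa (B.s ε * ρ a + ε * B.s (ρ b))) * f
      rw [← mul_inv_eq_iff_eq_mul, hp]
      congr 2
      · rw [map_add, hf.s]
      · rw [map_add, map_add, map_mul, map_mul, hf.s, hf.s, e, e2]
        grind
  · right
    constructor
    · intro m c c' z
      have h3 := hN (vec ε m c c' z)
      rw [act_two h1 hf e] at h3
      exact mul_inv_eq_iff_eq_mul.1 h3
    · intro a b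
      show f * (pa (a + B.s b) * E.xa (B.s ε * a + ε * B.s b)) =
        (pa (B.s (ρ b) + B.s (B.s (ρ a))) * E.xa (B.s ε * B.s (ρ b) + ε * B.s (B.s (ρ a)))) * f
      rw [← mul_inv_eq_iff_eq_mul, hp, B.invol]
      congr 2
      · rw [map_add, hf.s]; ring
      · rw [map_add, map_add, map_mul, map_mul, hf.s, hf.s, e, e2]
        grind

end act

end Cfsg.Agent.StdRank2.UFourEnd.PureX
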