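import Cfsg.Agent.StdRank2.UFourEnd.Hyp

/-!
# The closing of type `U₄(q)` in the field case: ranks

* `rank_T`: elementary abelian subgroups of `T` have order `≤ 4 |F| ^ 2`;
* `exists_of_S`, `exists_of_gamma`: involutions of `S`, and those of type `γ`, lie in (centralise) elementary abelian
  subgroups of order `≥ |F| ^ 3`;
* `not_conj`: hence they are not conjugate to `t`.
-/

set_option autoImplicit false
set_option linter.unusedSectionVars false

namespace Cfsg.Agent.StdRank2.UFourEnd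

open Subgroup Cfsg.Agent.StdRank2.UFour Cfsg.Agent.StdEven.Syl

variable {F : Type*} [Field F] [CharP F 2] {B : Bar F} {G : Type*} [Group G]

namespace Crd

variable (C : Crd B G)

/-- coordinates of an element of `S` -/
noncomputable def co (g : G) : F × F × F × F × F × F :=
  Function.invFun (fun x : F × F × F × F × F × F => C.w x.1 x.2.1 x.2.2.1 x.2.2.2.1 * C.p x.2.2.2.2.1 x.2.2.2.2.2) g

theorem co_nf (m c d z a b : F) : C.co (C.w m c d z * C.p a b) = (m, c, d, z, a, b) := by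
  refine Function.leftInverse_invFun (f := fun x : F × F × F × F × F × F =>
    C.w x.1 x.2.1 x.2.2.1 x.2.2.2.1 * C.p x.2.2.2.2.1 x.2.2.2.2.2) ?_ (m, c, d, z, a, b)
  rintro ⟨m, c, d, z, a, b⟩ ⟨m', c', d', z', a', b'⟩ h
  obtain ⟨h1, h2, h3, h4, h5, h6⟩ := C.nf_inj h
  simp only at h1 h2 h3 h4 h5 h6
  rw [h1, h2, h3, h4, h5, h6]

theorem co_w (m c d z : F) : C.co (C.w m c d z) = (m, c, d, z, 0, 0) := by
  have := C.co_nf m c d z 0 0
  rwa [C.p_zero, mul_one] at this

/-- elements of `S` commuting with `t` -/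
theorem cent_t {m c d z a b : F} (h : C.w m c d z * C.p a b * C.t = C.t * (C.w m c d z * C.p a b)) :
    B.s m = m ∧ d = B.s c ∧ B.s z = z ∧ b = B.s a := by
  rw [← mul_assoc, C.t_w, mul_assoc, mul_assoc, C.t_p, ← mul_assoc, ← mul_assoc] at h
  obtain ⟨h1, h2, h3, h4, h5, h6⟩ := C.nf_inj (mul_right_cancel h)
  exact ⟨h1.symm, h3, h4.symm, h6⟩

/-- the elementary abelian group containing `p a b` -/
def Eab (a b : F) : Subgroup G where
  carrier := {g | ∃ x y r, g = C.w 0 (x * a) (x * b) y * C.p (r * a) (r * b)}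
  mul_mem' := by
    rintro _ _ ⟨x, y, r, rfl⟩ ⟨x', y', r', rfl⟩
    refine ⟨x + x', y + y', r + r', ?_⟩
    rw [C.nf_mul]
    congr 1
    · apply C.w_eq
      · ring
      · ring
      · ring
      · have := CharTwo.add_self_eq_zero (r * a * (x' * b))
        linear_combination this
    · apply C.p_eq <;> ring
  one_mem' := ⟨0, 0, 0, by simp only [zero_mul, C.w_zero, C.p_zero, one_mul]⟩
  inv_mem' := by
    rintro _ ⟨x, y, r, rfl⟩
    refine ⟨x, y, r, ?_⟩
    rw [mul_inv_rev, C.w_inv, C.p_inv, C.p_w]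
    congr 1
    apply C.w_eq
    · rfl
    · ring
    · ring
    · have := CharTwo.add_self_eq_zero (r * a * (x * b))
      linear_combination this

theorem Eab_comm (a b : F) {g k : G} (hg : g ∈ C.Eab a b) (hk : k ∈ C.Eab a b) : g * k = k * g := by
  obtain ⟨x, y, r, rfl⟩ := hg
  obtain ⟨x', y', r', rfl⟩ := hk
  rw [C.nf_mul, C.nf_mul]
  congr 1
  · apply C.w_eq
    · ring
    · ring
    · ring
    · have h1 := CharTwo.add_self_eq_zero (r * a * (x' * b))
      have h2 := CharTwo.add_self_eq_zero (r' * a * (x * b))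
      linear_combination h1 - h2
  · apply C.p_eq <;> ring

theorem Eab_sq (a b : F) {g : G} (hg : g ∈ C.Eab a b) : g * g = 1 := by
  obtain ⟨x, y, r, rfl⟩ := hg
  rw [C.nf_mul]
  have e : C.w 0 0 0 0 * C.p 0 0 = (1 : G) := by rw [C.w_zero, C.p_zero, one_mul]
  rw [← e]
  congr 1
  · apply C.w_eq
    · ring
    · have := CharTwo.add_self_eq_zero (x * a)
      linear_combination this
    · have := CharTwo.add_self_eq_zero (x * b)
      linear_combination this
    · have := CharTwo.add_self_eq_zero (r * a * (x * b))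
      have h2 := CharTwo.add_self_eq_zero y
      linear_combination this + h2
  · apply C.p_eq
    · exact CharTwo.add_self_eq_zero _
    · exact CharTwo.add_self_eq_zero _

theorem Eab_card [Finite G] {a b : F} (h : a ≠ 0 ∨ b ≠ 0) : Nat.card F ^ 3 ≤ Nat.card (C.Eab a b) := by
  have e : Nat.card F ^ 3 = Nat.card (F × F × F) := by
    simp only [Nat.card_prod]; ring
  rw [e]
  refine Nat.card_le_card_of_injective (fun x => ⟨C.w 0 (x.1 * a) (x.1 * b) x.2.1 * C.p (x.2.2 * a) (x.2.2 * b),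
    ⟨_, _, _, rfl⟩⟩) ?_
  rintro ⟨x, y, r⟩ ⟨x', y', r'⟩ h1
  obtain ⟨-, h2, h3, h4, h5, h6⟩ := C.nf_inj (congrArg Subtype.val h1)
  simp only at h2 h3 h4 h5 h6
  rcases h with h | h
  · rw [mul_right_cancel₀ h h2, h4, mul_right_cancel₀ h h5]
  · rw [mul_right_cancel₀ h h3, h4, mul_right_cancel₀ h h6]

/-- **Every involution of `S` lies in an elementary abelian subgroup of order `≥ |F| ^ 3`.** -/
theorem exists_of_S [Finite G] [Finite F] {v : G} (hv : v ∈ C.S) (hvv : v * v = 1) :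
    ∃ E : Subgroup G, (∀ x ∈ E, ∀ y ∈ E, x * y = y * x) ∧ (∀ x ∈ E, x * x = 1) ∧ v ∈ E ∧
      Nat.card F ^ 3 ≤ Nat.card E := by
  obtain ⟨m, c, d, z, a, b, rfl⟩ := hv
  by_cases h : a ≠ 0 ∨ b ≠ 0
  · refine ⟨C.Eab a b, fun x hx y hy => C.Eab_comm a b hx hy, fun x hx => C.Eab_sq a b hx, ?_, C.Eab_card h⟩
    rw [C.nf_mul, CharTwo.add_self_eq_zero a, CharTwo.add_self_eq_zero b, C.p_zero, mul_one] at hvv
    obtain ⟨-, h2, h3, h4⟩ := C.w_inj _ _ _ _ hvv
    have h2' : a * m = 0 := by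
      have := CharTwo.add_self_eq_zero c
      linear_combination h2 - this
    have h3' : b * m = 0 := by
      have := CharTwo.add_self_eq_zero d
      linear_combination h3 - this
    have hm : m = 0 := by
      rcases h with h | h
      · exact (mul_eq_zero.1 h2').resolve_left h
      · exact (mul_eq_zero.1 h3').resolve_left h
    subst hm
    have h5 : a * d = b * c := by
      have := CharTwo.add_self_eq_zero z
      have h6 := CharTwo.add_self_eq_zero (b * c)
      linear_combination h4 - this - h6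
    rcases h with h | h
    · refine ⟨c * a⁻¹, z, 1, ?_⟩
      congr 1
      · apply C.w_eq rfl _ _ rfl
        · rw [mul_assoc, inv_mul_cancel₀ h, mul_one]
        · field_simp
          linear_combination h5
      · rw [one_mul, one_mul]
    · refine ⟨d * b⁻¹, z, 1, ?_⟩
      congr 1
      · apply C.w_eq rfl _ _ rfl
        · field_simp
          linear_combination -h5
        · rw [mul_assoc, inv_mul_cancel₀ h, mul_one]
      · rw [one_mul, one_mul]
  · push Not at h
    obtain ⟨rfl, rfl⟩ := h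
    refine ⟨C.W, fun x hx y hy => C.W_comm hx hy, fun x hx => C.W_sq hx, ?_, ?_⟩
    · rw [C.p_zero, mul_one]
      exact C.w_mem _ _ _ _
    · rw [C.card_W]
      exact Nat.pow_le_pow_right Nat.card_pos (by norm_num)

/-- the elementary abelian group centralised by an element of type `γ` -/
def Eg (a : F) : Subgroup G where
  carrier := {g | ∃ m c z, g = C.w m c (c + a * m) z}
  mul_mem' := by
    rintro _ _ ⟨m, c, z, rfl⟩ ⟨m', c', z', rfl⟩
    refine ⟨m + m', c + c', z + z', ?_⟩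
    rw [C.w_mul]
    apply C.w_eq <;> ring
  one_mem' := ⟨0, 0, 0, by simp only [mul_zero, add_zero, C.w_zero]⟩
  inv_mem' := by
    rintro _ ⟨m, c, z, rfl⟩
    exact ⟨m, c, z, C.w_inv _ _ _ _⟩

theorem Eg_le (a : F) : C.Eg a ≤ C.W := by
  rintro _ ⟨m, c, z, rfl⟩
  exact C.w_mem _ _ _ _

theorem Eg_card [Finite G] (a : F) : Nat.card F ^ 3 ≤ Nat.card (C.Eg a) := by
  have e : Nat.card F ^ 3 = Nat.card (F × F × F) := by
    simp only [Nat.card_prod]; ring
  rw [e]
  refine Nat.card_le_card_of_injective (fun x => ⟨C.w x.1 x.2.1 (x.2.1 + a * x.1) x.2.2, ⟨_, _, _, rfl⟩⟩) ?_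
  rintro ⟨m, c, z⟩ ⟨m', c', z'⟩ h1
  obtain ⟨h2, h3, -, h5⟩ := C.w_injective (congrArg Subtype.val h1)
  simp only at h2 h3 h5
  rw [h2, h3, h5]

/-- **Involutions of type `γ` centralise an elementary abelian subgroup of order `≥ |F| ^ 3`.** -/
theorem exists_of_gamma [Finite G] {s y : G} (hs : s ∈ C.S) (hy : C.Ac 1 true y) (hyy : y * y = 1)
    (hv : s * y * (s * y) = 1) :
    ∃ E : Subgroup G, (∀ x ∈ E, ∀ y ∈ E, x * y = y * x) ∧ (∀ x ∈ E, x * x = 1) ∧ (∀ x ∈ E, x * (s * y) = s * y * x) ∧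
      Nat.card F ^ 3 ≤ Nat.card E := by
  obtain ⟨m, c, d, z, a, b, rfl⟩ := hs
  have hyi : y⁻¹ = y := inv_eq_of_mul_eq_one_right hyy
  have h1 : C.w m c d z * C.p a b * (y * (C.w m c d z * C.p a b) * y⁻¹) = 1 := by
    rw [← hv, hyi]; group
  rw [hy.conj_nf] at h1
  simp only [cond_true] at h1
  have e1 : ∀ x, (1 : F ≃+* F) x = x := fun x => rfl
  rw [e1, e1, e1, e1, e1, e1, C.nf_mul] at h1
  obtain ⟨-, -, -, -, h2, -⟩ := C.nf_eq_one h1
  have hab : b = a := (eq_of_add h2).symm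
  subst hab
  refine ⟨C.Eg b, fun x hx y hy => C.W_comm (C.Eg_le _ hx) (C.Eg_le _ hy), fun x hx => C.W_sq (C.Eg_le _ hx), ?_,
    C.Eg_card b⟩
  rintro _ ⟨m', c', z', rfl⟩
  have e2 : C.w m c d z * C.p b b * y * C.w m' c' (c' + b * m') z' * (C.w m c d z * C.p b b * y)⁻¹ =
      C.w m' c' (c' + b * m') z' := by
    have e3 : C.w m c d z * C.p b b * y * C.w m' c' (c' + b * m') z' * (C.w m c d z * C.p b b * y)⁻¹ =
        C.w m c d z * C.p b b * (y * C.w m' c' (c' + b * m') z' * y⁻¹) * (C.w m c d z * C.p b b)⁻¹ := by group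
    rw [e3, hy.conj_w]
    simp only [cond_true]
    rw [e1, e1, e1, e1, C.conj_nf]
    apply C.w_eq rfl
    · have := CharTwo.add_self_eq_zero (b * m')
      linear_combination this
    · rfl
    · have h3 := CharTwo.add_self_eq_zero (b * c')
      have h4 := CharTwo.add_self_eq_zero (b * b * m')
      linear_combination h3 + h4
  rw [mul_inv_eq_iff_eq_mul] at e2
  exact e2.symm

end Crd

/-! ### elementary abelian subgroups of `T` -/

section rank

variable [Finite F] [Finite G]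

theorem Bar.card_K (B : Bar F) : Nat.card {x : F // B.s x = x} * Nat.card {x : F // B.s x = x} = Nat.card F := by
  refine OutField.card_fix (RingEquiv.ext fun y => B.invol y) ?_
  intro h4
  obtain ⟨z, hz⟩ := B.ne
  apply hz
  rw [h4]; rfl

/-- Elementary abelian subgroups of `C_S(t)`. -/
theorem card_cent_le (C : Crd B G) (E : Subgroup G) (hE : E ≤ C.S) (hc : ∀ x ∈ E, ∀ y ∈ E, x * y = y * x)
    (ht : ∀ x ∈ E, x * C.t = C.t * x) : Nat.card E ≤ Nat.card F ^ 2 := by
  classical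
  have hK := Bar.card_K B
  -- normal form of the elements
  have hnf : ∀ x ∈ E, ∃ m c z a, B.s m = m ∧ B.s z = z ∧ x = C.w m c (B.s c) z * C.p a (B.s a) := by
    intro x hx
    obtain ⟨m, c, d, z, a, b, rfl⟩ := hE hx
    obtain ⟨h1, rfl, h3, rfl⟩ := C.cent_t (ht _ hx)
    exact ⟨m, c, z, a, h1, h3, rfl⟩
  by_cases hW : E ≤ C.W
  · have hnf' : ∀ x : E, ∃ y : {x : F // B.s x = x} × F × {x : F // B.s x = x},
        (x : G) = C.w y.1 y.2.1 (B.s y.2.1) y.2.2 := by
      rintro ⟨x, hx⟩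
      obtain ⟨m, c, z, a, h1, h2, rfl⟩ := hnf x hx
      obtain ⟨rfl, -⟩ := C.nf_mem_W (hW hx)
      refine ⟨(⟨m, h1⟩, c, ⟨z, h2⟩), ?_⟩
      show C.w m c (B.s c) z * C.p 0 (B.s 0) = C.w m c (B.s c) z
      rw [map_zero, C.p_zero, mul_one]
    choose f hf using hnf'
    have h1 : Nat.card E ≤ Nat.card ({x : F // B.s x = x} × F × {x : F // B.s x = x}) := by
      refine Nat.card_le_card_of_injective f ?_
      intro x y e
      apply Subtype.ext
      rw [hf x, hf y, e]
    refine h1.trans ?_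
    simp only [Nat.card_prod]
    rw [pow_two]
    nth_rewrite 2 [← hK]
    apply le_of_eq
    ring
  · obtain ⟨e₀, he₀, he₀W⟩ := SetLike.not_le_iff_exists.1 hW
    obtain ⟨m₀, c₀, z₀, a₀, hm₀, hz₀, e₀e⟩ := hnf e₀ he₀
    have ha₀ : a₀ ≠ 0 := by
      rintro rfl
      apply he₀W
      rw [e₀e, map_zero, C.p_zero, mul_one]
      exact C.w_mem _ _ _ _
    have h1 := card_le_mul E C.W (fun g => (C.co g).2.2.2.2.1) (by
      intro x hx y hy hxy
      obtain ⟨m, c, z, a, -, -, rfl⟩ := hnf x hx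
      obtain ⟨m', c', z', a', -, -, rfl⟩ := hnf y hy
      rw [C.co_nf, C.co_nf] at hxy
      have hxy : a = a' := hxy
      subst hxy
      have e : (C.w m c (B.s c) z * C.p a (B.s a))⁻¹ * (C.w m' c' (B.s c') z' * C.p a (B.s a)) =
          C.p a (B.s a) * (C.w m c (B.s c) z * C.w m' c' (B.s c') z') * (C.p a (B.s a))⁻¹ := by
        rw [mul_inv_rev, C.w_inv, C.p_inv]; group
      rw [e]
      exact C.conj_W (C.p_mem_S _ _) (mul_mem (C.w_mem _ _ _ _) (C.w_mem _ _ _ _)))
    have h2 : Nat.card (E ⊓ C.W : Subgroup G) ≤ Nat.card F := by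
      have hnf' : ∀ x : (E ⊓ C.W : Subgroup G), ∃ y : {x : F // B.s x = x} × {x : F // B.s x = x},
          (x : G) = C.w 0 (a₀ * y.1) (B.s (a₀ * y.1)) y.2 := by
        rintro ⟨x, hx⟩
        obtain ⟨hxE, hxW⟩ := mem_inf.1 hx
        obtain ⟨m, c, z, a, h1, h2, rfl⟩ := hnf x hxE
        obtain ⟨rfl, -⟩ := C.nf_mem_W hxW
        rw [map_zero, C.p_zero, mul_one] at hxE
        have h3 := hc _ he₀ _ hxE
        have h4 : C.w m₀ c₀ (B.s c₀) z₀ * C.p a₀ (B.s a₀) * C.w m c (B.s c) z *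
            (C.w m₀ c₀ (B.s c₀) z₀ * C.p a₀ (B.s a₀))⁻¹ = C.w m c (B.s c) z := by
          rw [← e₀e, h3, mul_inv_cancel_right]
        rw [C.conj_nf] at h4
        obtain ⟨-, h5, -, h6⟩ := C.w_injective h4
        have hm : m = 0 := by
          have : a₀ * m = 0 := by linear_combination h5
          exact (mul_eq_zero.1 this).resolve_left ha₀
        subst hm
        have h7 : a₀ * B.s c = B.s a₀ * c := by
          have := CharTwo.add_self_eq_zero (B.s a₀ * c)
          linear_combination h6 - this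
        have hsa : B.s a₀ ≠ 0 := (map_ne_zero_iff B.s B.s.injective).2 ha₀
        have h8 : B.s (a₀⁻¹ * c) = a₀⁻¹ * c := by
          rw [map_mul, map_inv₀]
          field_simp
          linear_combination h7
        refine ⟨(⟨a₀⁻¹ * c, h8⟩, ⟨z, h2⟩), ?_⟩
        show C.w 0 c (B.s c) z * C.p 0 (B.s 0) = C.w 0 (a₀ * (a₀⁻¹ * c)) (B.s (a₀ * (a₀⁻¹ * c))) z
        rw [mul_inv_cancel_left₀ ha₀, map_zero, C.p_zero, mul_one]
      choose f hf using hnf'
      have h1 : Nat.card (E ⊓ C.W : Subgroup G) ≤ Nat.card ({x : F // B.s x = x} × {x : F // B.s x = x}) := by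
        refine Nat.card_le_card_of_injective f ?_
        intro x y e
        apply Subtype.ext
        rw [hf x, hf y, e]
      refine h1.trans ?_
      rw [Nat.card_prod, hK]
    calc Nat.card E ≤ Nat.card F * Nat.card (E ⊓ C.W : Subgroup G) := h1
      _ ≤ Nat.card F * Nat.card F := Nat.mul_le_mul_left _ h2
      _ = Nat.card F ^ 2 := (pow_two _).symm

variable {C : Crd B G} {T H : Subgroup G} (h : Hyp C T H)

include h

/-- **Elementary abelian subgroups of `T` have order `≤ 4 |F| ^ 2`.** -/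
theorem Hyp.rank_T (E : Subgroup G) (hE : E ≤ T) (hc : ∀ x ∈ E, ∀ y ∈ E, x * y = y * x)
    (h2 : ∀ x ∈ E, x * x = 1) : Nat.card E ≤ 4 * Nat.card F ^ 2 := by
  refine (h.card_le_four E (hE.trans le_sup_right) (fun e he => by rw [h2 e he]; exact one_mem _)).trans ?_
  refine Nat.mul_le_mul_left _ (card_cent_le C _ inf_le_right ?_ ?_)
  · exact fun x hx y hy => hc x (mem_inf.1 hx).1 y (mem_inf.1 hy).1
  · exact fun x hx => h.TC x (hE (mem_inf.1 hx).1)

/-- an element centralising a large elementary abelian subgroup is not conjugate to `t` -/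
theorem Hyp.false_of_rank (hsyl : IsSyl T (centralizer ({C.t} : Set G))) (hF : 4 < Nat.card F) (E : Subgroup G)
    (hc : ∀ x ∈ E, ∀ y ∈ E, x * y = y * x) (h2 : ∀ x ∈ E, x * x = 1) (hcard : Nat.card F ^ 3 ≤ Nat.card E) {g : G}
    (hg : ∀ x ∈ E, x * (g * C.t * g⁻¹) = g * C.t * g⁻¹ * x) : False := by
  have hE2 : IsPGroup 2 E := by
    rintro ⟨x, hx⟩
    exact ⟨1, Subtype.ext (by show x ^ 2 ^ 1 = 1; rw [pow_one, pow_two, h2 x hx])⟩
  obtain ⟨n, hn, hnE⟩ := hsyl.exists_conj (isPGroup_map hE2 g⁻¹) (by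
    rintro _ ⟨x, hx, rfl⟩
    rw [mem_centralizer_singleton_iff]
    show g⁻¹ * x * g⁻¹⁻¹ * C.t = C.t * (g⁻¹ * x * g⁻¹⁻¹)
    have h3 := hg x hx
    calc g⁻¹ * x * g⁻¹⁻¹ * C.t = g⁻¹ * (x * (g * C.t * g⁻¹)) * g := by group
      _ = g⁻¹ * (g * C.t * g⁻¹ * x) * g := by rw [h3]
      _ = _ := by group)
  let E' : Subgroup G := E.map (MulAut.conj (n * g⁻¹)).toMonoidHom
  have hval : ∀ x, (MulAut.conj (n * g⁻¹)).toMonoidHom x = n * (g⁻¹ * x * g⁻¹⁻¹) * n⁻¹ := by
    intro x
    show n * g⁻¹ * x * (n * g⁻¹)⁻¹ = _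
    group
  have hE'T : E' ≤ T := by
    rintro _ ⟨x, hx, rfl⟩
    rw [hval]
    exact hnE _ ⟨x, hx, rfl⟩
  have h3 := h.rank_T E' hE'T (by
    rintro _ ⟨x, hx, rfl⟩ _ ⟨y, hy, rfl⟩
    rw [← map_mul, ← map_mul, hc x hx y hy]) (by
    rintro _ ⟨x, hx, rfl⟩
    rw [← map_mul, h2 x hx, map_one])
  have h4 : Nat.card E' = Nat.card E :=
    (Nat.card_congr (E.equivMapOfInjective _ (MulAut.conj (n * g⁻¹)).injective).toEquiv).symm
  rw [h4] at h3
  have h5 := hcard.trans h3
  have h6 : 0 < Nat.card F ^ 2 := by positivity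
  have h7 : Nat.card F * Nat.card F ^ 2 ≤ 4 * Nat.card F ^ 2 := by
    calc Nat.card F * Nat.card F ^ 2 = Nat.card F ^ 3 := by ring
      _ ≤ _ := h5
  have h8 := Nat.le_of_mul_le_mul_right h7 h6
  omega

theorem Hyp.conj_not_mem_S (hsyl : IsSyl T (centralizer ({C.t} : Set G))) (hF : 4 < Nat.card F) (g : G) :
    g * C.t * g⁻¹ ∉ C.S := by
  intro hg
  obtain ⟨E, h1, h2, h3, h4⟩ := C.exists_of_S hg (by
    calc g * C.t * g⁻¹ * (g * C.t * g⁻¹) = g * (C.t * C.t) * g⁻¹ := by group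
      _ = 1 := by rw [C.tt]; group)
  exact h.false_of_rank hsyl hF E h1 h2 h4 (fun x hx => h1 x hx _ h3)

theorem Hyp.conj_ne_gamma (hsyl : IsSyl T (centralizer ({C.t} : Set G))) (hF : 4 < Nat.card F) (g : G) {s y : G}
    (hs : s ∈ C.S) (hy : C.Ac 1 true y) (hyy : y * y = 1) : g * C.t * g⁻¹ ≠ s * y := by
  intro e
  obtain ⟨E, h1, h2, h3, h4⟩ := C.exists_of_gamma hs hy hyy (by
    rw [← e]
    calc g * C.t * g⁻¹ * (g * C.t * g⁻¹) = g * (C.t * C.t) * g⁻¹ := by group
      _ = 1 := by rw [C.tt]; group)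
  exact h.false_of_rank hsyl hF E h1 h2 h4 (fun x hx => by rw [e]; exact h3 x hx)

end rank

end Cfsg.Agent.StdRank2.UFourEnd
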