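import Cfsg.Agent.StdRank2.UFourEnd.Char

/-!
# The closing of type `U₄(q)` in the field case: the singular points of `S / W`

`Nm C x`: `x` normalises `S` and `W`.  `Nm.not_field`: `x t x⁻¹` is not in `S f` with `f` of pure field type.
-/

set_option autoImplicit false
set_option linter.unusedSectionVars false

namespace Cfsg.Agent.StdRank2.UFourEnd

open Subgroup Cfsg.Agent.StdRank2.UFour Cfsg.Agent.StdEven.Syl

variable {F : Type*} [Field F] [CharP F 2] {B : Bar F} {G : Type*} [Group G] {C : Crd B G}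

/-- `x` normalises `S` and `W` -/
structure Nm (C : Crd B G) (x : G) : Prop where
  S : ∀ g ∈ C.S, x * g * x⁻¹ ∈ C.S
  W : ∀ g ∈ C.W, x * g * x⁻¹ ∈ C.W
  S' : ∀ g ∈ C.S, x⁻¹ * g * x ∈ C.S
  W' : ∀ g ∈ C.W, x⁻¹ * g * x ∈ C.W

theorem Crd.Pt.comm {k : G} {a b : F} (h : C.Pt k a b) (m c d z : F) :
    k * C.w m c d z * k⁻¹ * (C.w m c d z)⁻¹ = C.w 0 (a * m) (b * m) (a * d + b * c + a * b * m) := by
  obtain ⟨m', c', d', z', rfl⟩ := h
  rw [C.conj_nf, C.w_inv, C.w_mul]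
  have h1 := CharTwo.add_self_eq_zero m
  have h2 := CharTwo.add_self_eq_zero c
  have h3 := CharTwo.add_self_eq_zero d
  have h4 := CharTwo.add_self_eq_zero z
  refine C.w_eq h1 ?_ ?_ ?_
  · linear_combination h2
  · linear_combination h3
  · linear_combination h4

/-- the elements of `W` with `m = 0` are those with a centraliser in `S` larger than `W` -/
theorem Crd.exists_comm (c d z : F) : ∃ k ∈ C.S, k ∉ C.W ∧ k * C.w 0 c d z = C.w 0 c d z * k := by
  have key : ∀ a b : F, (a ≠ 0 ∨ b ≠ 0) → a * d + b * c = 0 →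
      ∃ k ∈ C.S, k ∉ C.W ∧ k * C.w 0 c d z = C.w 0 c d z * k := by
    intro a b hab h
    refine ⟨C.p a b, C.p_mem_S _ _, ?_, ?_⟩
    · rintro ⟨m', c', d', z', e⟩
      obtain ⟨rfl, rfl⟩ := C.p_mem_w e
      rcases hab with h | h <;> exact h rfl
    · rw [C.p_w]
      congr 1
      apply C.w_eq rfl
      · ring
      · ring
      · linear_combination h
  by_cases hcd : c ≠ 0 ∨ d ≠ 0
  · exact key c d hcd (by
      have := CharTwo.add_self_eq_zero (c * d)
      linear_combination this)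
  · push Not at hcd
    obtain ⟨rfl, rfl⟩ := hcd
    exact key 1 0 (Or.inl one_ne_zero) (by ring)

theorem Crd.m_zero {k : G} (hk : k ∈ C.S) (hkW : k ∉ C.W) {m c d z : F} (h : k * C.w m c d z = C.w m c d z * k) :
    m = 0 := by
  obtain ⟨a, b, hab⟩ := C.exists_pt hk
  have h1 := hab.comm m c d z
  rw [h, mul_inv_cancel_right, mul_inv_cancel] at h1
  obtain ⟨-, h2, h3, -⟩ := C.w_inj _ _ _ _ h1.symm
  by_contra hm
  have ha := (mul_eq_zero.1 h2).resolve_right hm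
  have hb := (mul_eq_zero.1 h3).resolve_right hm
  subst ha hb
  exact hkW hab.mem_W

theorem exists_mu [Finite F] (hF : 4 < Nat.card F) : ∃ μ : F, μ ≠ 0 ∧ μ ≠ 1 := by
  classical
  by_contra h
  push Not at h
  have := Fintype.ofFinite F
  have h1 : (Finset.univ : Finset F) ⊆ {0, 1} := by
    intro t _
    by_cases ht : t = 0
    · simp [ht]
    · simp [h t ht]
  have h2 := Finset.card_le_card h1
  rw [Finset.card_univ, ← Nat.card_eq_fintype_card] at h2
  have h3 := Finset.card_le_two (a := (0 : F)) (b := 1)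
  omega

theorem card_le_two_of [Finite F] (f : F → F) (hf : Function.Injective f) {a b : F} (ha : a ≠ 0)
    (h : ∀ r, a * f r ^ 2 + b * f r = 0) : Nat.card F ≤ 2 := by
  classical
  have := Fintype.ofFinite F
  have h1 : (Finset.univ.image f) ⊆ {0, b * a⁻¹} := by
    intro t ht
    obtain ⟨r, -, rfl⟩ := Finset.mem_image.1 ht
    by_cases h0 : f r = 0
    · simp [h0]
    · have h2 : f r = b * a⁻¹ := by
        have h3 : f r * (a * f r + b) = 0 := by linear_combination h r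
        have h4 := (mul_eq_zero.1 h3).resolve_left h0
        have h5 := Crd.eq_of_add h4
        rw [← h5]
        field_simp
      simp [h2]
  have h2 := Finset.card_le_card h1
  rw [Finset.card_image_of_injective _ hf, Finset.card_univ, ← Nat.card_eq_fintype_card] at h2
  exact h2.trans Finset.card_le_two

namespace Nm

variable {x : G} (h : Nm C x)

include h

theorem not_W {g : G} (hg : g ∉ C.W) : x * g * x⁻¹ ∉ C.W := by
  intro h1
  apply hg
  have h2 := h.W' _ h1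
  have : x⁻¹ * (x * g * x⁻¹) * x = g := by group
  rwa [this] at h2

theorem not_W' {g : G} (hg : g ∉ C.W) : x⁻¹ * g * x ∉ C.W := by
  intro h1
  apply hg
  have h2 := h.W _ h1
  have : x * (x⁻¹ * g * x) * x⁻¹ = g := by group
  rwa [this] at h2

theorem m_zero {m c d z c' d' z' : F} (e : x * C.w m c d z * x⁻¹ = C.w 0 c' d' z') : m = 0 := by
  obtain ⟨k, hk, hkW, hkc⟩ := C.exists_comm c' d' z'
  refine Crd.m_zero (h.S' k hk) (h.not_W' hkW) (c := c) (d := d) (z := z) ?_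
  have e1 : C.w m c d z = x⁻¹ * C.w 0 c' d' z' * x := by rw [← e]; group
  rw [e1]
  calc x⁻¹ * k * x * (x⁻¹ * C.w 0 c' d' z' * x) = x⁻¹ * (k * C.w 0 c' d' z') * x := by group
    _ = x⁻¹ * (C.w 0 c' d' z' * k) * x := by rw [hkc]
    _ = x⁻¹ * C.w 0 c' d' z' * x * (x⁻¹ * k * x) := by group

/-- conjugation by `x` is injective modulo `W` -/
theorem inj {g k : G} {a b a' b' u v : F} (hg : C.Pt g a b) (hk : C.Pt k a' b') (hg' : C.Pt (x * g * x⁻¹) u v)
    (hk' : C.Pt (x * k * x⁻¹) u v) : a = a' ∧ b = b' := by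
  have h1 := h.W' _ (hg'.div hk')
  have e : x⁻¹ * ((x * g * x⁻¹)⁻¹ * (x * k * x⁻¹)) * x = g⁻¹ * k := by group
  rw [e] at h1
  obtain ⟨h2, h3⟩ := (hg.inv.mul hk).unique (C.pt_W h1)
  exact ⟨Crd.eq_of_add h2, Crd.eq_of_add h3⟩

variable [Finite F] (hF : 4 < Nat.card F)

include hF

/-- The images of the elements `p r 0` lie in one of the two singular lines. -/
theorem line : (∀ r, ∃ a, C.Pt (x * C.p r 0 * x⁻¹) a 0) ∨ (∀ r, ∃ b, C.Pt (x * C.p r 0 * x⁻¹) 0 b) := by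
  have hex : ∀ r : F, ∃ a b, C.Pt (x * C.p r 0 * x⁻¹) a b := fun r => C.exists_pt (h.S _ (C.p_mem_S _ _))
  choose α β hαβ using hex
  have hadd : ∀ r s, α (r + s) = α r + α s ∧ β (r + s) = β r + β s := by
    intro r s
    refine (hαβ (r + s)).unique ?_
    have e : x * C.p (r + s) 0 * x⁻¹ = (x * C.p r 0 * x⁻¹) * (x * C.p s 0 * x⁻¹) := by
      have : C.p (r + s) 0 = C.p r 0 * C.p s 0 := by rw [C.p_mul, add_zero]
      rw [this]; group
    rw [e]
    exact (hαβ r).mul (hαβ s)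
  obtain ⟨μ, hμ0, hμ1⟩ := exists_mu hF
  obtain ⟨m1, c1, d1, z1, e1⟩ := h.W _ (C.w_mem 1 0 0 0)
  obtain ⟨m2, c2, d2, z2, e2⟩ := h.W _ (C.w_mem μ 0 0 0)
  have hm1 : m1 ≠ 0 := by
    rintro rfl
    exact one_ne_zero (h.m_zero e1)
  have hm12 : m1 + m2 ≠ 0 := by
    intro h0
    have e3 : x * C.w (1 + μ) (0 + 0) (0 + 0) (0 + 0) * x⁻¹ = C.w 0 (c1 + c2) (d1 + d2) (z1 + z2) := by
      have e4 : x * (C.w 1 0 0 0 * C.w μ 0 0 0) * x⁻¹ = (x * C.w 1 0 0 0 * x⁻¹) * (x * C.w μ 0 0 0 * x⁻¹) := by group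
      rw [C.w_mul, e1, e2, C.w_mul, h0] at e4
      exact e4
    have h4 := h.m_zero e3
    exact hμ1 (Crd.eq_of_add h4).symm
  have hm2 : m2 ≠ 0 := by
    rintro rfl
    exact hμ0 (h.m_zero e2)
  -- the quadratic relation
  have hQ : ∀ r, α r * (d1 * m2 + d2 * m1) + β r * (c1 * m2 + c2 * m1) + α r * β r * (m1 * (m1 + m2)) = 0 := by
    intro r
    have k1 := (hαβ r).comm m1 c1 d1 z1
    have k2 := (hαβ (r * μ⁻¹)).comm m2 c2 d2 z2
    have k3 : x * C.p r 0 * x⁻¹ * C.w m1 c1 d1 z1 * (x * C.p r 0 * x⁻¹)⁻¹ * (C.w m1 c1 d1 z1)⁻¹ =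
        x * C.p (r * μ⁻¹) 0 * x⁻¹ * C.w m2 c2 d2 z2 * (x * C.p (r * μ⁻¹) 0 * x⁻¹)⁻¹ * (C.w m2 c2 d2 z2)⁻¹ := by
      rw [← e1, ← e2]
      have k4 := (C.pt_p r 0).comm 1 0 0 0
      have k5 := (C.pt_p (r * μ⁻¹) 0).comm μ 0 0 0
      have k6 : C.p r 0 * C.w 1 0 0 0 * (C.p r 0)⁻¹ * (C.w 1 0 0 0)⁻¹ =
          C.p (r * μ⁻¹) 0 * C.w μ 0 0 0 * (C.p (r * μ⁻¹) 0)⁻¹ * (C.w μ 0 0 0)⁻¹ := by
        rw [k4, k5]
        apply C.w_eq rfl
        · field_simp
        · ring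
        · ring
      calc _ = x * (C.p r 0 * C.w 1 0 0 0 * (C.p r 0)⁻¹ * (C.w 1 0 0 0)⁻¹) * x⁻¹ := by group
        _ = x * (C.p (r * μ⁻¹) 0 * C.w μ 0 0 0 * (C.p (r * μ⁻¹) 0)⁻¹ * (C.w μ 0 0 0)⁻¹) * x⁻¹ := by rw [k6]
        _ = _ := by group
    rw [k1, k2] at k3
    obtain ⟨-, f1, f2, f3⟩ := C.w_injective k3
    have g1 : α (r * μ⁻¹) = α r * m1 * m2⁻¹ := by rw [f1]; field_simp
    have g2 : β (r * μ⁻¹) = β r * m1 * m2⁻¹ := by rw [f2]; field_simp
    rw [g1, g2] at f3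
    have f4 : (α r * d1 + β r * c1 + α r * β r * m1) * m2 =
        α r * m1 * d2 + β r * m1 * c2 + α r * β r * m1 * m1 := by
      rw [f3]; field_simp
    have h2 : (2 : F) = 0 := CharTwo.two_eq_zero
    linear_combination f4 + (α r * m1 * d2 + β r * m1 * c2 + α r * β r * m1 * m1) * h2
  by_contra hcon
  push Not at hcon
  obtain ⟨⟨r1, hr1⟩, r2, hr2⟩ := hcon
  have hb1 : β r1 ≠ 0 := fun h0 => hr1 _ ((hαβ r1).congr rfl h0)
  have ha2 : α r2 ≠ 0 := fun h0 => hr2 _ ((hαβ r2).congr h0 rfl)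
  -- polarisation
  have hpol : ∀ r s, α r * β s + α s * β r = 0 := by
    intro r s
    have q1 := hQ r
    have q2 := hQ s
    have q3 := hQ (r + s)
    rw [(hadd r s).1, (hadd r s).2] at q3
    have q4 : (α r * β s + α s * β r) * (m1 * (m1 + m2)) = 0 := by linear_combination q3 - q1 - q2
    exact (mul_eq_zero.1 q4).resolve_right (mul_ne_zero hm1 hm12)
  have ha1 : α r1 ≠ 0 := by
    intro h0
    have := hpol r1 r2
    rw [h0, zero_mul, zero_add] at this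
    exact (mul_ne_zero ha2 hb1) this
  -- `α r * β r1 = α r1 * β r`
  have hprop : ∀ r, β r = α r * (β r1 * (α r1)⁻¹) := by
    intro r
    have h1 := Crd.eq_of_add (hpol r r1)
    field_simp
    rw [h1]; ring
  have hinj : Function.Injective α := by
    intro r s hrs
    have h1 : β r = β s := by rw [hprop r, hprop s, hrs]
    exact (h.inj (C.pt_p r 0) (C.pt_p s 0) (hαβ r) ((hαβ s).congr hrs.symm h1.symm)).1
  have h3 := card_le_two_of α hinj (a := β r1 * (α r1)⁻¹ * (m1 * (m1 + m2)))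
    (b := (d1 * m2 + d2 * m1) + β r1 * (α r1)⁻¹ * (c1 * m2 + c2 * m1))
    (mul_ne_zero (mul_ne_zero hb1 (inv_ne_zero ha1)) (mul_ne_zero hm1 hm12)) (by
      intro r
      have q := hQ r
      rw [hprop r] at q
      linear_combination q)
  omega

/-- **`x t x⁻¹` is not a pure field element modulo `S`.** -/
theorem not_field {s f : G} (hs : s ∈ C.S) {σ : F ≃+* F} (hf : C.Ac σ false f) : x * C.t * x⁻¹ ≠ s * f := by
  intro e
  have ht : ∀ {g : G} {a b : F}, C.Pt (x * g * x⁻¹) a b → C.Pt (x * (C.t * g * C.t⁻¹) * x⁻¹) (σ a) (σ b) := by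
    intro g a b hg
    have e1 : x * (C.t * g * C.t⁻¹) * x⁻¹ = (x * C.t * x⁻¹) * (x * g * x⁻¹) * (x * C.t * x⁻¹)⁻¹ := by group
    rw [e1, e]
    have e2 : s * f * (x * g * x⁻¹) * (s * f)⁻¹ = s * (f * (x * g * x⁻¹) * f⁻¹) * s⁻¹ := by group
    rw [e2]
    obtain ⟨a', b', hs'⟩ := C.exists_pt hs
    exact hs'.conj (hf.pt hg)
  have key : ∀ (pr : F → F → Prop), (∀ r, ∃ a b, pr a b ∧ C.Pt (x * C.p r 0 * x⁻¹) a b) →
      (∀ a b, pr a b → pr (σ a) (σ b)) →
      (∃ f : F → F × F, ∀ a b, pr a b → ∃ c, f c = (a, b)) → False := by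
    intro pr h1 h2 ⟨f, hf⟩
    choose α β hpr hα using h1
    have h3 : ∀ r, ∃ c, f c = (α r, β r) := fun r => hf _ _ (hpr r)
    choose g hg using h3
    have hg1 : Function.Injective g := by
      intro r s hrs
      have e1 : (α r, β r) = (α s, β s) := by rw [← hg, ← hg, hrs]
      exact (h.inj (C.pt_p r 0) (C.pt_p s 0) (hα r)
        ((hα s).congr (congrArg Prod.fst e1).symm (congrArg Prod.snd e1).symm)).1
    have hg2 := Finite.surjective_of_injective hg1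
    -- the image of `p 0 1`
    have h4 := ht (hα 1)
    have e3 : C.t * C.p 1 0 * C.t⁻¹ = C.p 0 1 := by
      rw [C.t_p, mul_inv_cancel_right, map_zero, map_one]
    rw [e3] at h4
    obtain ⟨c, hc⟩ := hf _ _ (h2 _ _ (hpr 1))
    obtain ⟨r, hr⟩ := hg2 c
    have e4 : (α r, β r) = (σ (α 1), σ (β 1)) := by rw [← hg, hr, hc]
    have h5 := h.inj (C.pt_p r 0) (C.pt_p 0 1) (hα r)
      (h4.congr (congrArg Prod.fst e4).symm (congrArg Prod.snd e4).symm)
    exact zero_ne_one h5.2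
  rcases h.line hF with h1 | h1
  · refine key (fun a b => b = 0) (fun r => ?_) (fun a b hb => by rw [hb, map_zero])
      ⟨fun c => (c, 0), fun a b hb => ⟨a, by rw [hb]⟩⟩
    obtain ⟨a, ha⟩ := h1 r
    exact ⟨a, 0, rfl, ha⟩
  · refine key (fun a b => a = 0) (fun r => ?_) (fun a b hb => by rw [hb, map_zero])
      ⟨fun c => (0, c), fun a b hb => ⟨b, by rw [hb]⟩⟩
    obtain ⟨b, hb⟩ := h1 r
    exact ⟨0, b, rfl, hb⟩

end Nm

namespace Hyp

variable [Finite F] [Finite G] {T H : Subgroup G} (h : Hyp C T H)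

include h

theorem nm (hF : 4 < Nat.card F) {x : G} (hx : ∀ g ∈ C.S ⊔ T, x * g * x⁻¹ ∈ C.S ⊔ T)
    (hx' : ∀ g ∈ C.S ⊔ T, x⁻¹ * g * x ∈ C.S ⊔ T) : Nm C x := by
  have h1 := h.conj_S_le hF hx hx'
  have h2 := h.conj_W_le hF hx hx'
  refine ⟨fun g hg => ?_, fun g hg => ?_, fun g hg => ?_, fun g hg => ?_⟩
  · rw [← h1]; exact ⟨g, hg, rfl⟩
  · rw [← h2]; exact ⟨g, hg, rfl⟩
  · exact mem_map_conj.1 (by rw [h1]; exact hg)
  · exact mem_map_conj.1 (by rw [h2]; exact hg)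

end Hyp

end Cfsg.Agent.StdRank2.UFourEnd
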