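import Cfsg.Agent.StdRank2.UFourEnd.SplitFalse
import Cfsg.Agent.StdRank2.UFourEnd.Chain

/-!
# S1778, type `U₄(q)`, `q ≥ 4`: the split case is impossible

`false_of_split`: from a Sylow 2-subgroup of `L` of order `|S|²`, `S` the Sylow 2-subgroup of the factor.
-/

set_option autoImplicit false
set_option linter.unusedSectionVars false

namespace Cfsg.Agent.StdRank2.UFourEnd.SplitEnd

open Subgroup
open Cfsg.Agent.TitsThree.StdData
open Cfsg.Agent.StdRank2.B2Std Cfsg.Agent.StdRank2.UFour Cfsg.Agent.StdRank2.UFourId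
open Cfsg.Agent.StdEven Cfsg.Agent.StdEven.CoreQuot Cfsg.Agent.StdEven.Syl
open Cfsg.Agent.SwapEnd Cfsg.Agent.StdRank2.UStart Cfsg.Agent.StdRank2.B2Conn
open Cfsg.Agent.Schreier.Basic Cfsg.Agent.StdL2.Setup

universe u

section card

variable {F : Type*} [Field F] [Finite F] [CharP F 2] {B : Bar F}

theorem card_T_le : Nat.card (stdU0 F B.s B.invol).T ≤ Nat.card (Fx (stdU0 F B.s B.invol)) :=
  Nat.card_le_card_of_injective
    (fun p => (⟨p.c, (udat0 B).σ_c (Subsingleton.elim _ _)⟩ : Fx (stdU0 F B.s B.invol)))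
    fun _ _ h => T_ext (Subsingleton.elim _ _) (congrArg Subtype.val h)

/-- `|S| ≤ |F|³` -/
theorem card_U_le {A : Type*} [Group A] (S : Std (stdU0 F B.s B.invol) A) : Nat.card S.U ≤ Nat.card F ^ 3 := by
  rw [S.card_U]
  have h1 := card_T_le (B := B)
  have h2 := card_Fx (udat0 B)
  have h3 : Nat.card (stdU0 F B.s B.invol).T ^ 2 ≤ Nat.card F := by
    rw [← h2, pow_two]
    exact Nat.mul_le_mul h1 h1
  calc Nat.card F ^ 2 * Nat.card (stdU0 F B.s B.invol).T ^ 2 ≤ Nat.card F ^ 2 * Nat.card F := Nat.mul_le_mul_left _ h3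
    _ = Nat.card F ^ 3 := by ring

/-- `q ≥ 4` -/
theorem four_le {lam : B.K} (h0 : lam ≠ 0) (h1 : lam ≠ 1) : 4 ≤ Nat.card (Fx (stdU0 F B.s B.invol)) := by
  have := Fintype.ofFinite F
  let f : B.K → Fx (stdU0 F B.s B.invol) := fun x => ⟨x, x.2⟩
  have hf : Function.Injective f := fun x y h => Subtype.ext (congrArg Subtype.val h)
  have h3 : 3 ≤ Nat.card (Fx (stdU0 F B.s B.invol)) := by
    have h4 : Nat.card (Fin 3) ≤ Nat.card (Fx (stdU0 F B.s B.invol)) := by
      refine Nat.card_le_card_of_injective (fun i : Fin 3 => f (![0, 1, lam] i)) ?_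
      intro i j hij
      have h5 := hf hij
      fin_cases i <;> fin_cases j <;> simp_all
    simpa using h4
  have h6 := card_Fx (udat0 B)
  obtain ⟨n, -, hn⟩ := FiniteField.card F 2
  have h9 : Nat.card F = 2 ^ (n : ℕ) := by rw [Nat.card_eq_fintype_card, hn]
  rw [h9] at h6
  have h7 : Nat.card (Fx (stdU0 F B.s B.invol)) ∣ 2 ^ (n : ℕ) := ⟨_, h6.symm⟩
  obtain ⟨k, -, hk⟩ := (Nat.dvd_prime_pow Nat.prime_two).1 h7
  rw [hk] at h3 ⊢
  rcases Nat.lt_or_ge k 2 with h8 | h8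
  · exfalso
    interval_cases k <;> omega
  · calc 4 = 2 ^ 2 := by norm_num
      _ ≤ 2 ^ k := Nat.pow_le_pow_right (by norm_num) h8

end card

section main

variable {G : Type u} [Group G] [Finite G] {L A : Subgroup G} {t : G} (C : Conf L A t)
  {F : Type*} [Field F] [Fintype F] [CharP F 2] {q : ℕ} (hF : Fintype.card F = q ^ 2)
  (D : Chain.Data4 A t hF) {MX S₁ : Subgroup (XQ A t)} (hM : SplitM D.grown MX S₁)
include C hM

/-- **The split case is impossible**, given the order of a Sylow 2-subgroup of `L`. -/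
theorem false_of_split (hY : ∀ (M : Subgroup G) (Sw : Swap M t), Swap.Dia Sw A →
    ∃ Y, IsSyl Y L ∧ Nat.card Y = Nat.card D.S.U ^ 2) : False := by
  obtain ⟨M, W, Di, -⟩ := SplitX.exists_M D.h D.S D.h0 D.h1 hM C.cyc D.schA
  obtain ⟨Y, h1, h2⟩ := hY M W Di
  refine SplitX.false_of_card D.h D.S D.h0 D.h1 hM C D.schA h1 ?_
  rw [h2]
  calc Nat.card D.S.U ^ 2 ≤ (Nat.card F ^ 3) ^ 2 := Nat.pow_le_pow_left (card_U_le D.S) 2
    _ = Nat.card F ^ 6 := by ring

end main

end Cfsg.Agent.StdRank2.UFourEnd.SplitEnd
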