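import Cfsg.Agent.StdRank2.UFourEnd.Sing
import Cfsg.Agent.StdEven.OuterKill

/-!
# The closing of type `U₄(q)` in the field case: `t^G ∩ P = t^S`

`Hyp.syl_P`: `P = S T` is a Sylow 2-subgroup of `G`; `Hyp.star`: the conjugates of `t` in `P` are the `S`-conjugates (the
number of fixed points of `t` on `G / P` is odd, but it would be the sum of two odd numbers if `t` were conjugate to the pure
field involution of `T`).
-/

set_option autoImplicit false
set_option linter.unusedSectionVars false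

namespace Cfsg.Agent.StdRank2.UFourEnd

open Subgroup Cfsg.Agent.StdRank2.UFour Cfsg.Agent.StdEven.Syl MulAction

/-! ### Fixed points -/

section fixed

variable {G : Type*} [Group G] [Finite G] (P : Subgroup G) (t : G)

theorem card_stab (x : G) : Nat.card (stabilizer (centralizer ({t} : Set G)) (QuotientGroup.mk x : G ⧸ P)) =
    Nat.card (P ⊓ centralizer ({x⁻¹ * t * x} : Set G) : Subgroup G) := by
  have hst : ∀ y : centralizer ({t} : Set G), y ∈ stabilizer (centralizer ({t} : Set G)) (QuotientGroup.mk x : G ⧸ P) ↔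
      x⁻¹ * (y : G) * x ∈ P := by
    intro y
    rw [mem_stabilizer_iff]
    show (QuotientGroup.mk ((y : G) * x) : G ⧸ P) = QuotientGroup.mk x ↔ _
    rw [QuotientGroup.eq, ← inv_mem_iff]
    have : (((y : G) * x)⁻¹ * x)⁻¹ = x⁻¹ * (y : G) * x := by group
    rw [this]
  refine Nat.card_congr
    { toFun := fun y => ⟨x⁻¹ * (y : G) * x, mem_inf.2 ⟨(hst y.1).1 y.2, ?_⟩⟩
      invFun := fun p => ⟨⟨x * (p : G) * x⁻¹, ?_⟩, (hst _).2 ?_⟩
      left_inv := fun y => by
        apply Subtype.ext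
        apply Subtype.ext
        show x * (x⁻¹ * (y : G) * x) * x⁻¹ = y
        group
      right_inv := fun p => by
        apply Subtype.ext
        show x⁻¹ * (x * (p : G) * x⁻¹) * x = p
        group }
  · rw [mem_centralizer_singleton_iff]
    have h1 := mem_centralizer_singleton_iff.1 y.1.2
    calc x⁻¹ * (y : G) * x * (x⁻¹ * t * x) = x⁻¹ * ((y : G) * t) * x := by group
      _ = x⁻¹ * (t * (y : G)) * x := by rw [h1]
      _ = x⁻¹ * t * x * (x⁻¹ * (y : G) * x) := by group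
  · rw [mem_centralizer_singleton_iff]
    have h1 := mem_centralizer_singleton_iff.1 (mem_inf.1 p.2).2
    calc x * (p : G) * x⁻¹ * t = x * ((p : G) * (x⁻¹ * t * x)) * x⁻¹ := by group
      _ = x * (x⁻¹ * t * x * (p : G)) * x⁻¹ := by rw [h1]
      _ = t * (x * (p : G) * x⁻¹) := by group
  · show x⁻¹ * (x * (p : G) * x⁻¹) * x ∈ P
    have : x⁻¹ * (x * (p : G) * x⁻¹) * x = p := by group
    rw [this]
    exact (mem_inf.1 p.2).1

theorem odd_orbit (x : G) {T : Subgroup G} (hT : IsSyl T (centralizer ({t} : Set G)))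
    (hc : Nat.card (P ⊓ centralizer ({x⁻¹ * t * x} : Set G) : Subgroup G) = Nat.card T) :
    Odd (Nat.card (orbit (centralizer ({t} : Set G)) (QuotientGroup.mk x : G ⧸ P))) := by
  have h1 := Nat.card_congr (orbitEquivQuotientStabilizer (centralizer ({t} : Set G)) (QuotientGroup.mk x : G ⧸ P))
  have h2 := Subgroup.card_eq_card_quotient_mul_card_subgroup
    (stabilizer (centralizer ({t} : Set G)) (QuotientGroup.mk x : G ⧸ P))
  rw [← h1, card_stab, hc] at h2
  have h3 : T.relIndex (centralizer ({t} : Set G)) * Nat.card T = Nat.card (centralizer ({t} : Set G)) := by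
    have h4 := Subgroup.card_eq_card_quotient_mul_card_subgroup (T.subgroupOf (centralizer ({t} : Set G)))
    rw [Nat.card_congr (Subgroup.subgroupOfEquivOfLe hT.le).toEquiv] at h4
    exact h4.symm
  rw [← h3] at h2
  rw [← Nat.eq_of_mul_eq_mul_right Nat.card_pos h2]
  exact hT.odd_relIndex

end fixed

variable {F : Type*} [Field F] [CharP F 2] {B : Bar F} {G : Type*} [Group G] {C : Crd B G}

namespace Hyp

variable [Finite F] [Finite G] {T H : Subgroup G} (h : Hyp C T H)

include h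

theorem eq_t {y : G} (hy : y ∈ H) (hac : C.Ac B.s true y) : y = C.t := h.eq_of_ac hy h.tH hac C.ac_t

variable (hsyl : IsSyl T (centralizer ({C.t} : Set G))) (hF : 4 < Nat.card F)

include hsyl hF

/-- The conjugates of `t` in `P` are `S`-conjugate to `t` or to the field involution. -/
theorem conj_cases {g : G} (hg : g * C.t * g⁻¹ ∈ C.S ⊔ T) :
    ∃ x ∈ C.S, ∃ y ∈ H, ∃ sw, C.Ac B.s sw y ∧ g * C.t * g⁻¹ = x * y * x⁻¹ := by
  obtain ⟨s, hs, y, hy, e⟩ := h.mem_P.1 hg
  have hsq : s * y * (s * y) = 1 := by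
    rw [← e]
    calc g * C.t * g⁻¹ * (g * C.t * g⁻¹) = g * (C.t * C.t) * g⁻¹ := by group
      _ = 1 := by rw [C.tt]; group
  have hyy : y * y = 1 := h.H_sq hy hs (by rw [hsq]; exact one_mem _)
  obtain ⟨σ, x, hac⟩ := h.ac y hy
  rcases h.invol_cases hyy hac with rfl | rfl
  · exfalso
    cases x
    · obtain rfl := h.ker y hy hac
      rw [mul_one] at e
      exact h.conj_not_mem_S hsyl hF g (by rw [e]; exact hs)
    · exact h.conj_ne_gamma hsyl hF g hs hac hyy e
  · obtain ⟨g', hg', e'⟩ := C.good hac hyy hs hsq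
    exact ⟨g', hg', y, hy, x, hac, by rw [e, e']⟩

/-- **`P = S T` is a Sylow 2-subgroup.** -/
theorem syl_P : IsSyl (C.S ⊔ T) ⊤ := by
  by_contra hcon
  have hPP : IsSyl (C.S ⊔ T) (C.S ⊔ T) := ⟨le_rfl, h.two_P, fun X _ hXP hle => le_antisymm hXP hle⟩
  obtain ⟨X, hX, hlt, hXn⟩ := hPP.exists_normalizer hcon
  obtain ⟨x, hxX, hxP⟩ := SetLike.exists_of_lt hlt
  have hx : ∀ g ∈ C.S ⊔ T, x * g * x⁻¹ ∈ C.S ⊔ T := fun g hg => conj_mem_of_mem_normalizer (hXn hxX) hg
  have hx' : ∀ g ∈ C.S ⊔ T, x⁻¹ * g * x ∈ C.S ⊔ T := fun g hg => conj_inv_mem_of_mem_normalizer (hXn hxX) hg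
  have hnm := h.nm hF hx hx'
  obtain ⟨u, hu, y, hy, sw, hac, e⟩ := h.conj_cases hsyl hF (hx _ (mem_sup_right h.tT))
  cases sw
  · exact hnm.not_field hF (s := u * (y * u⁻¹ * y⁻¹)) (mul_mem hu (h.conj_S hy (inv_mem hu))) hac (by rw [e]; group)
  · obtain rfl := h.eq_t hy hac
    have hc : u⁻¹ * x ∈ centralizer ({C.t} : Set G) := by
      rw [mem_centralizer_singleton_iff]
      have h1 : u⁻¹ * (x * C.t * x⁻¹) * u = C.t := by rw [e]; group
      calc u⁻¹ * x * C.t = u⁻¹ * (x * C.t * x⁻¹) * u * (u⁻¹ * x) := by group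
        _ = C.t * (u⁻¹ * x) := by rw [h1]
    have huX : u⁻¹ * x ∈ X := mul_mem (inv_mem (hlt.le (mem_sup_left hu))) hxX
    have h3 := hsyl.max (X ⊓ centralizer ({C.t} : Set G)) (hX.to_le inf_le_left) inf_le_right
      (le_inf (fun y hy => hlt.le (mem_sup_right hy)) hsyl.le)
    have h4 : u⁻¹ * x ∈ T := by rw [← h3]; exact mem_inf.2 ⟨huX, hc⟩
    apply hxP
    have : x = u * (u⁻¹ * x) := by group
    rw [this]
    exact mul_mem (mem_sup_left hu) (mem_sup_right h4)

/-- **`t` is not conjugate to the field involution.** -/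
theorem not_field {g f : G} (hf : f ∈ H) (hac : C.Ac B.s false f) : g * C.t * g⁻¹ ≠ f := by
  classical
  intro e
  set P : Subgroup G := C.S ⊔ T with hP
  set Y : Subgroup G := centralizer ({C.t} : Set G) with hY
  have hPs := h.syl_P hsyl hF
  have := Fintype.ofFinite (G ⧸ P)
  have hft : f ≠ C.t := by
    rintro rfl
    exact absurd (h.ac_unique hac C.ac_t).2 (by simp)
  -- fixed cosets
  have hfix : ∀ x : G, C.t • (QuotientGroup.mk x : G ⧸ P) = QuotientGroup.mk x ↔ x⁻¹ * C.t * x ∈ P := by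
    intro x
    show (QuotientGroup.mk (C.t * x) : G ⧸ P) = QuotientGroup.mk x ↔ _
    rw [QuotientGroup.eq]
    have : (C.t * x)⁻¹ * x = x⁻¹ * C.t * x := by rw [mul_inv_rev, C.t_inv]
    rw [this]
  have hmem : ∀ x : G, x⁻¹ * C.t * x ∈ P ↔
      (QuotientGroup.mk x : G ⧸ P) ∈ orbit Y (QuotientGroup.mk 1 : G ⧸ P) ∨
      (QuotientGroup.mk x : G ⧸ P) ∈ orbit Y (QuotientGroup.mk g⁻¹ : G ⧸ P) := by
    intro x
    constructor
    · intro hx
      obtain ⟨u, hu, y, hy, sw, hacy, e'⟩ := h.conj_cases hsyl hF (g := x⁻¹) (by rw [inv_inv]; exact hx)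
      rw [inv_inv] at e'
      cases sw
      · right
        obtain rfl : y = f := h.eq_of_ac hy hf hacy hac
        have hc : x * u * g ∈ Y := by
          rw [hY, mem_centralizer_singleton_iff]
          have h1 : x * u * (g * C.t * g⁻¹) * u⁻¹ * x⁻¹ = C.t := by
            rw [e]
            calc x * u * y * u⁻¹ * x⁻¹ = x * (u * y * u⁻¹) * x⁻¹ := by group
              _ = x * (x⁻¹ * C.t * x) * x⁻¹ := by rw [e']
              _ = C.t := by group
          calc x * u * g * C.t = x * u * (g * C.t * g⁻¹) * u⁻¹ * x⁻¹ * (x * u * g) := by group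
            _ = C.t * (x * u * g) := by rw [h1]
        refine ⟨⟨x * u * g, hc⟩, ?_⟩
        show (QuotientGroup.mk (x * u * g * g⁻¹) : G ⧸ P) = QuotientGroup.mk x
        rw [QuotientGroup.eq]
        have : (x * u * g * g⁻¹)⁻¹ * x = u⁻¹ := by group
        rw [this]
        exact inv_mem (mem_sup_left hu)
      · left
        obtain rfl := h.eq_t hy hacy
        have hc : x * u ∈ Y := by
          rw [hY, mem_centralizer_singleton_iff]
          have h1 : x * u * C.t * u⁻¹ * x⁻¹ = C.t := by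
            calc x * u * C.t * u⁻¹ * x⁻¹ = x * (u * C.t * u⁻¹) * x⁻¹ := by group
              _ = x * (x⁻¹ * C.t * x) * x⁻¹ := by rw [e']
              _ = C.t := by group
          calc x * u * C.t = x * u * C.t * u⁻¹ * x⁻¹ * (x * u) := by group
            _ = C.t * (x * u) := by rw [h1]
        refine ⟨⟨x * u, hc⟩, ?_⟩
        show (QuotientGroup.mk (x * u * 1) : G ⧸ P) = QuotientGroup.mk x
        rw [QuotientGroup.eq]
        have : (x * u * 1)⁻¹ * x = u⁻¹ := by group
        rw [this]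
        exact inv_mem (mem_sup_left hu)
    · rintro (⟨y, hy⟩ | ⟨y, hy⟩)
      · change (QuotientGroup.mk ((y : G) * 1) : G ⧸ P) = QuotientGroup.mk x at hy
        rw [QuotientGroup.eq] at hy
        have hyt := mem_centralizer_singleton_iff.1 y.2
        have h1 : x⁻¹ * C.t * x = (((y : G) * 1)⁻¹ * x)⁻¹ * C.t * (((y : G) * 1)⁻¹ * x) := by
          have h2 : (y : G) * C.t * (y : G)⁻¹ = C.t := by rw [hyt, mul_inv_cancel_right]
          calc x⁻¹ * C.t * x = x⁻¹ * ((y : G) * C.t * (y : G)⁻¹) * x := by rw [h2]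
            _ = _ := by group
        rw [h1]
        exact mul_mem (mul_mem (inv_mem hy) (mem_sup_right h.tT)) hy
      · change (QuotientGroup.mk ((y : G) * g⁻¹) : G ⧸ P) = QuotientGroup.mk x at hy
        rw [QuotientGroup.eq] at hy
        have hyt := mem_centralizer_singleton_iff.1 y.2
        have h1 : x⁻¹ * C.t * x = (((y : G) * g⁻¹)⁻¹ * x)⁻¹ * (g * C.t * g⁻¹) * (((y : G) * g⁻¹)⁻¹ * x) := by
          have h2 : (y : G) * C.t * (y : G)⁻¹ = C.t := by rw [hyt, mul_inv_cancel_right]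
          calc x⁻¹ * C.t * x = x⁻¹ * ((y : G) * C.t * (y : G)⁻¹) * x := by rw [h2]
            _ = _ := by group
        rw [h1, e]
        exact mul_mem (mul_mem (inv_mem hy) (mem_sup_right (h.HT hf))) hy
  -- the two orbits are disjoint
  have hdisj : Disjoint (orbit Y (QuotientGroup.mk 1 : G ⧸ P)) (orbit Y (QuotientGroup.mk g⁻¹ : G ⧸ P)) := by
    rw [Set.disjoint_left]
    intro q hq1 hq2
    have h1 := orbit_eq_iff.2 hq1
    have h2 := orbit_eq_iff.2 hq2
    have h3 : (QuotientGroup.mk g⁻¹ : G ⧸ P) ∈ orbit Y (QuotientGroup.mk 1 : G ⧸ P) := by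
      rw [← h1, h2]; exact mem_orbit_self _
    obtain ⟨y, hy⟩ := h3
    change (QuotientGroup.mk ((y : G) * 1) : G ⧸ P) = QuotientGroup.mk g⁻¹ at hy
    rw [QuotientGroup.eq, ← inv_mem_iff] at hy
    have hyt := mem_centralizer_singleton_iff.1 y.2
    have e2 : (((y : G) * 1)⁻¹ * g⁻¹)⁻¹ = g * y := by group
    rw [e2] at hy
    obtain ⟨s, hs, k, hk, e3⟩ := h.mem_P.1 hy
    have e4 : g * y * C.t * (g * y)⁻¹ = f := by
      have h2 : (y : G) * C.t * (y : G)⁻¹ = C.t := by rw [hyt, mul_inv_cancel_right]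
      calc g * y * C.t * (g * y)⁻¹ = g * ((y : G) * C.t * (y : G)⁻¹) * g⁻¹ := by group
        _ = f := by rw [h2, e]
    rw [e3] at e4
    have hkt := h.TC k (h.HT hk)
    have e5 : s * k * C.t * (s * k)⁻¹ = s * (C.t * s⁻¹ * C.t⁻¹) * C.t := by
      calc s * k * C.t * (s * k)⁻¹ = s * (k * C.t) * k⁻¹ * s⁻¹ := by group
        _ = s * (C.t * k) * k⁻¹ * s⁻¹ := by rw [hkt]
        _ = _ := by group
    rw [e5] at e4
    have e6 := h.unique_decomp (s' := 1) (y' := f) (mul_mem hs (h.conj_S h.tH (inv_mem hs))) (one_mem _)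
      h.tH hf (by rw [one_mul]; exact e4)
    exact hft e6.2.symm
  -- counting
  have hodd : Odd (Nat.card (G ⧸ P)) := by
    have := hPs.odd_relIndex
    rwa [relIndex_top_right] at this
  have hmod := Cfsg.Agent.StdEven.OuterKill.card_mod_two (α := G ⧸ P) (fun q => C.t • q) (fun q => by
    show C.t • C.t • q = q
    rw [smul_smul, C.tt, one_smul])
  have hset : {q : G ⧸ P | C.t • q = q} = orbit Y (QuotientGroup.mk 1 : G ⧸ P) ∪ orbit Y (QuotientGroup.mk g⁻¹ : G ⧸ P) := by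
    ext q
    obtain ⟨x, rfl⟩ := QuotientGroup.mk_surjective q
    show C.t • (QuotientGroup.mk x : G ⧸ P) = QuotientGroup.mk x ↔ _
    rw [hfix, hmem]
    rfl
  have hc1 : Fintype.card {q : G ⧸ P // C.t • q = q} =
      Nat.card (orbit Y (QuotientGroup.mk 1 : G ⧸ P)) + Nat.card (orbit Y (QuotientGroup.mk g⁻¹ : G ⧸ P)) := by
    have h1 : Fintype.card {q : G ⧸ P // C.t • q = q} = ({q : G ⧸ P | C.t • q = q} : Set (G ⧸ P)).ncard := by
      rw [← Nat.card_eq_fintype_card]
      rfl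
    rw [h1, hset, Set.ncard_union_eq hdisj (Set.toFinite _) (Set.toFinite _)]
    rfl
  have ho1 := odd_orbit P C.t 1 hsyl (by
    have e1 : (1 : G)⁻¹ * C.t * 1 = C.t := by group
    rw [e1, ← h.T_eq])
  have ho2 := odd_orbit P C.t g⁻¹ hsyl (by
    have e1 : g⁻¹⁻¹ * C.t * g⁻¹ = f := by rw [inv_inv]; exact e
    rw [e1, h.card_cent_P hf hac, ← h.card_T])
  rw [hc1, ← Nat.card_eq_fintype_card] at hmod
  have h5 : Even (Nat.card (orbit Y (QuotientGroup.mk 1 : G ⧸ P)) + Nat.card (orbit Y (QuotientGroup.mk g⁻¹ : G ⧸ P))) :=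
    ho1.add_odd ho2
  rw [Nat.odd_iff] at hodd
  rw [Nat.even_iff] at h5
  omega

/-- **(★)**: the conjugates of `t` in `P` are the `S`-conjugates. -/
theorem star {g : G} (hg : g * C.t * g⁻¹ ∈ C.S ⊔ T) : ∃ x ∈ C.S, g * C.t * g⁻¹ = x * C.t * x⁻¹ := by
  obtain ⟨x, hx, y, hy, sw, hac, e⟩ := h.conj_cases hsyl hF hg
  cases sw
  · exfalso
    refine h.not_field hsyl hF (g := x⁻¹ * g) hy hac ?_
    calc x⁻¹ * g * C.t * (x⁻¹ * g)⁻¹ = x⁻¹ * (g * C.t * g⁻¹) * x := by group
      _ = y := by rw [e]; group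
  · obtain rfl := h.eq_t hy hac
    exact ⟨x, hx, e⟩

end Hyp

end Cfsg.Agent.StdRank2.UFourEnd
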